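import Groth.Agent.Lib.SchFin.Schematic
import Mathlib.RingTheory.Flat.FaithfullyFlat.Algebra
import Mathlib.RingTheory.Smooth.Fiber
import Mathlib.RingTheory.RingHom.Etale
import Mathlib.RingTheory.RingHom.FaithfullyFlat
import Mathlib.RingTheory.Kaehler.TensorProduct
import Mathlib.RingTheory.Adjoin.FG
import Mathlib.RingTheory.Finiteness.Descent

/-!
# Quasi-coherent modules and algebras over an affine up-closed set
-/

set_option autoImplicit false

open TensorProduct Function SchFin GrothLib.SchFin

namespace GrothLib.SchFin

universe u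

variable {O : Type u} [CommRing O] {ι : Type u} [Finite ι] {B : ι → Type u}
  [∀ i, CommRing (B i)] [∀ i, Algebra O (B i)] [Module.FaithfullyFlat O (∀ i, B i)]
variable {M N : Type u} [AddCommGroup M] [Module O M] [AddCommGroup N] [Module O N]

theorem rTensor_piRight (f : M →ₗ[O] N) [DecidableEq ι] [Fintype ι] (t : M ⊗[O] (∀ i, B i)) (i : ι) :
    TensorProduct.piRight O O N B (LinearMap.rTensor (∀ i, B i) f t) i =
      LinearMap.rTensor (B i) f (TensorProduct.piRight O O M B t i) := by
  induction t using TensorProduct.induction_on with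
  | zero => simp
  | tmul m b => simp
  | add x y hx hy => simp only [map_add, Pi.add_apply, hx, hy]

/-- Injectivity may be tested on each factor of a faithfully flat finite product. -/
theorem injective_of_pi (f : M →ₗ[O] N)
    (h : ∀ i, Injective (LinearMap.lTensor (B i) f)) : Injective f := by
  classical
  haveI := Fintype.ofFinite ι
  rw [← Module.FaithfullyFlat.lTensor_injective_iff_injective O (∀ i, B i),
    LinearMap.lTensor_inj_iff_rTensor_inj]
  intro x y hxy
  apply (TensorProduct.piRight O O M B).injective
  funext i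
  have hi := (LinearMap.lTensor_inj_iff_rTensor_inj (B i) f).1 (h i)
  exact hi (by rw [← rTensor_piRight, ← rTensor_piRight, hxy])

/-- Surjectivity may be tested on each factor of a faithfully flat finite product. -/
theorem surjective_of_pi (f : M →ₗ[O] N)
    (h : ∀ i, Surjective (LinearMap.lTensor (B i) f)) : Surjective f := by
  classical
  haveI := Fintype.ofFinite ι
  rw [← Module.FaithfullyFlat.lTensor_surjective_iff_surjective O (∀ i, B i)]
  have hr : Surjective (LinearMap.rTensor (∀ i, B i) f) := by
    intro z
    have hi : ∀ i, Surjective (LinearMap.rTensor (B i) f) := fun i w => by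
      obtain ⟨v, hv⟩ := h i (TensorProduct.comm O N (B i) w)
      refine ⟨TensorProduct.comm O (B i) M v, ?_⟩
      apply (TensorProduct.comm O N (B i)).injective
      rw [← hv]
      clear hv
      induction v using TensorProduct.induction_on with
      | zero => simp
      | tmul a b => simp
      | add p q hp hq => simp only [map_add, hp, hq]
    choose v hv using fun i => hi i (TensorProduct.piRight O O N B z i)
    refine ⟨(TensorProduct.piRight O O M B).symm v, ?_⟩
    apply (TensorProduct.piRight O O N B).injective
    funext i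
    rw [rTensor_piRight, LinearEquiv.apply_symm_apply, hv]
  intro z
  obtain ⟨v, hv⟩ := hr (TensorProduct.comm O (∀ i, B i) N z)
  refine ⟨TensorProduct.comm O M (∀ i, B i) v, ?_⟩
  apply (TensorProduct.comm O (∀ i, B i) N).injective
  rw [← hv]
  clear hv
  induction v using TensorProduct.induction_on with
  | zero => simp
  | tmul a b => simp
  | add p q hp hq => simp only [map_add, hp, hq]

theorem flat_factor (i : ι) : Module.Flat O (B i) := by
  classical
  exact Module.Flat.of_retract (M := ∀ i, B i)
    (LinearMap.single O B i) (LinearMap.proj i) (by ext; simp)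

/-- Flatness may be tested on each factor of a faithfully flat finite product. -/
theorem flat_of_pi (h : ∀ i, Module.Flat O (B i ⊗[O] M)) : Module.Flat O M := by
  rw [Module.Flat.iff_lTensor_preserves_injective_linearMap]
  intro P Q _ _ _ _ g hg
  refine injective_of_pi (B := B) _ (fun i => ?_)
  haveI := h i
  have hinj := Module.Flat.lTensor_preserves_injective_linearMap (M := B i ⊗[O] M) g hg
  intro x y hxy
  apply (TensorProduct.assoc O (B i) M P).symm.injective
  apply hinj
  apply (TensorProduct.assoc O (B i) M Q).injective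
  have hn : ∀ t, TensorProduct.assoc O (B i) M Q
      (LinearMap.lTensor (B i ⊗[O] M) g ((TensorProduct.assoc O (B i) M P).symm t)) =
      LinearMap.lTensor (B i) (LinearMap.lTensor M g) t := by
    intro t
    induction t using TensorProduct.induction_on with
    | zero => simp
    | tmul b u =>
      induction u using TensorProduct.induction_on with
      | zero => simp
      | tmul m p => simp
      | add a c ha hc =>
        rw [TensorProduct.tmul_add, map_add, map_add, map_add, ha, hc, map_add]
    | add a c ha hc => simp only [map_add, ha, hc]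
  rw [hn, hn, hxy]

end GrothLib.SchFin

namespace GrothLib.FinSp

universe u

variable {X : RSpace.{u}} (U : Set X.pt)

/-- the value at a point as an algebra over the sections -/
abbrev evAlg (q : U) : Algebra (X.sectRing U) (X.ring q.1) := (X.evalRing U q).toAlgebra

variable {U}

theorem affine_bc (hUa : (X.restrict U).IsAffine) (M : OMod X) (hM : M.IsQcoh) (q : U) :
    IsBCAlong (X.evalRing U q) (M.evalMod U q) := by
  have hMr : (M.restrict U).IsQcoh := fun p p' h => hM p.1 p'.1 h
  have H := hUa.2.2.1 (M.restrict U) hMr q
  let q' : ↥(Set.univ : Set (X.restrict U).pt) := ⟨q, trivial⟩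
  let j : X.sectRing U →+* (X.restrict U).sectRing Set.univ :=
    { toFun := fun s => ⟨fun p => s.1 p.1, fun p p' h => s.2 p.1 p'.1 h⟩
      map_one' := rfl, map_mul' := fun _ _ => rfl, map_zero' := rfl, map_add' := fun _ _ => rfl }
  let jinv : (X.restrict U).sectRing Set.univ →+* X.sectRing U :=
    { toFun := fun s => ⟨fun p => s.1 ⟨p, trivial⟩, fun p p' h => s.2 ⟨p, trivial⟩ ⟨p', trivial⟩ h⟩
      map_one' := rfl, map_mul' := fun _ _ => rfl, map_zero' := rfl, map_add' := fun _ _ => rfl }
  let k : M.sect U →+ (M.restrict U).sect Set.univ :=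
    { toFun := fun s => ⟨fun p => s.1 p.1, fun p p' h => s.2 p.1 p'.1 h⟩
      map_zero' := rfl, map_add' := fun _ _ => rfl }
  let kinv : (M.restrict U).sect Set.univ →+ M.sect U :=
    { toFun := fun s => ⟨fun p => s.1 ⟨p, trivial⟩, fun p p' h => s.2 ⟨p, trivial⟩ ⟨p', trivial⟩ h⟩
      map_zero' := rfl, map_add' := fun _ _ => rfl }
  let g := X.evalRing U q
  let g' : (X.restrict U).sectRing Set.univ →+* X.ring q.1 := (X.restrict U).evalRing Set.univ q'
  letI a1 : Algebra (X.sectRing U) (X.ring q.1) := g.toAlgebra
  letI a2 : Algebra ((X.restrict U).sectRing Set.univ) (X.ring q.1) := RingHom.toAlgebra g'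
  let Φ : X.ring q.1 ⊗[X.sectRing U] M.sect U →+
      X.ring q.1 ⊗[(X.restrict U).sectRing Set.univ] (M.restrict U).sect Set.univ :=
    TensorProduct.liftAddHom
      { toFun := fun s => (TensorProduct.mk ((X.restrict U).sectRing Set.univ) (X.ring q.1) _ s).toAddMonoidHom.comp k
        map_zero' := by ext; simp
        map_add' := fun a b => by ext; simp [TensorProduct.add_tmul] }
      (fun r s m => by
        change (r • s) ⊗ₜ k m = s ⊗ₜ k (r • m)
        rw [show k (r • m) = j r • k m from rfl, ← TensorProduct.smul_tmul]
        rfl)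
  let Ψ : X.ring q.1 ⊗[(X.restrict U).sectRing Set.univ] (M.restrict U).sect Set.univ →+
      X.ring q.1 ⊗[X.sectRing U] M.sect U :=
    TensorProduct.liftAddHom
      { toFun := fun s => (TensorProduct.mk (X.sectRing U) (X.ring q.1) _ s).toAddMonoidHom.comp kinv
        map_zero' := by ext; simp
        map_add' := fun a b => by ext; simp [TensorProduct.add_tmul] }
      (fun r s m => by
        change (r • s) ⊗ₜ kinv m = s ⊗ₜ kinv (r • m)
        rw [show kinv (r • m) = jinv r • kinv m from rfl, ← TensorProduct.smul_tmul]
        rfl)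
  have h1 : ∀ t, Ψ (Φ t) = t := by
    intro t
    induction t using TensorProduct.induction_on with
    | zero => rw [map_zero, map_zero]
    | tmul s m => rfl
    | add a b ha hb => rw [map_add, map_add, ha, hb]
  have h2 : ∀ t, Φ (Ψ t) = t := by
    intro t
    induction t using TensorProduct.induction_on with
    | zero => rw [map_zero, map_zero]
    | tmul s m => rfl
    | add a b ha hb => rw [map_add, map_add, ha, hb]
  let f' := (M.restrict U).evalMod Set.univ q'
  let fe : (M.restrict U).sect Set.univ →+ M.carrier q.1 := f'.toAddMonoidHom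
  have hfe : ∀ r m, fe (r • m) = (g' r : X.ring q.1) • fe m := fun r m => rfl
  let F' : X.ring q.1 ⊗[(X.restrict U).sectRing Set.univ] (M.restrict U).sect Set.univ →+
      M.carrier q.1 :=
    TensorProduct.liftAddHom
      { toFun := fun s => (smulAddHom (X.ring q.1) (M.carrier q.1) s).comp fe
        map_zero' := by ext; simp
        map_add' := fun a b => by ext; simp [add_smul] }
      (fun r s m => by
        change ((g' r : X.ring q.1) * s) • fe m = s • fe (r • m)
        rw [hfe, mul_comm, mul_smul])
  have hF' : Bijective F' := (isBCAlong_iff_bijective f' F' (fun _ _ => rfl)).1 H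
  refine (isBCAlong_iff_bijective (M.evalMod U q) (F'.comp Φ) (fun _ _ => rfl)).2 ?_
  exact hF'.comp ⟨fun a b h => by rw [← h1 a, ← h1 b, h], fun t => ⟨Ψ t, h2 t⟩⟩

theorem affine_resSect_bc (x : X.pt) (hU : U ⊆ X.up x) (hUa : (X.restrict U).IsAffine)
    (hff : Module.FaithfullyFlat (X.sectRing U) ((q : ↥U) → X.ring q.1)) (M : OMod X)
    (hM : M.IsQcoh) : IsBCAlong (X.resSect x U hU) (M.resSect x U hU) := by
  letI := (X.resSect x U hU).toAlgebra
  let O := X.sectRing U
  letI : Module (X.ring x) (M.sect U) := Module.compHom _ (X.resSect x U hU)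
  haveI : IsScalarTower (X.ring x) O (M.sect U) := IsScalarTower.of_algebraMap_smul fun _ _ => rfl
  let rl : M.carrier x →ₗ[X.ring x] M.sect U :=
    { toFun := M.resSect x U hU, map_add' := map_add _
      map_smul' := (M.resSect x U hU).map_smulₛₗ }
  let β : O ⊗[X.ring x] M.carrier x →ₗ[O] M.sect U := LinearMap.liftBaseChange O rl
  refine (isBCAlong_iff_bijective (M.resSect x U hU) β.toAddMonoidHom
    (fun s m => LinearMap.liftBaseChange_tmul O rl s m)).2 ?_
  letI : ∀ q : ↥U, Algebra O (X.ring q.1) := fun q => evAlg U q
  haveI : Module.FaithfullyFlat O ((q : ↥U) → X.ring q.1) := hff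
  have key : ∀ q : ↥U, Bijective (LinearMap.lTensor (X.ring q.1) β) := by
    intro q
    letI : Algebra (X.ring x) (X.ring q.1) := (X.res (hU q.2)).toAlgebra
    haveI : IsScalarTower (X.ring x) O (X.ring q.1) := .of_algebraMap_eq fun _ => rfl
    letI : Module O (M.carrier q.1) := Module.compHom _ (X.evalRing U q)
    haveI : IsScalarTower O (X.ring q.1) (M.carrier q.1) :=
      IsScalarTower.of_algebraMap_smul fun _ _ => rfl
    let evl : M.sect U →ₗ[O] M.carrier q.1 :=
      { toFun := M.evalMod U q, map_add' := map_add _, map_smul' := (M.evalMod U q).map_smulₛₗ }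
    have hev : IsBaseChange (X.ring q.1) evl := affine_bc hUa M hM q
    letI : Module (X.ring x) (M.carrier q.1) := Module.compHom _ (X.res (hU q.2))
    haveI : IsScalarTower (X.ring x) (X.ring q.1) (M.carrier q.1) :=
      IsScalarTower.of_algebraMap_smul fun _ _ => rfl
    let resl : M.carrier x →ₗ[X.ring x] M.carrier q.1 :=
      { toFun := M.res (hU q.2), map_add' := map_add _, map_smul' := (M.res (hU q.2)).map_smulₛₗ }
    have hres : IsBaseChange (X.ring q.1) resl := hM x q.1 (hU q.2)
    let e := TensorProduct.AlgebraTensorModule.cancelBaseChange (X.ring x) O (X.ring q.1)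
      (X.ring q.1) (M.carrier x)
    have hc : ⇑(LinearMap.lTensor (X.ring q.1) β) =
        ⇑hev.equiv.symm ∘ (⇑hres.equiv ∘ ⇑e) := by
      funext t
      apply hev.equiv.injective
      simp only [Function.comp_apply, LinearEquiv.apply_symm_apply]
      induction t using TensorProduct.induction_on with
      | zero => simp
      | tmul s z =>
        induction z using TensorProduct.induction_on with
        | zero => simp
        | tmul o m =>
          rw [LinearMap.lTensor_tmul, IsBaseChange.equiv_tmul,
            show e (s ⊗ₜ (o ⊗ₜ m)) = (o • s) ⊗ₜ m from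
              TensorProduct.AlgebraTensorModule.cancelBaseChange_tmul _ _ _ _ _ _,
            IsBaseChange.equiv_tmul, show β (o ⊗ₜ m) = o • rl m from
              LinearMap.liftBaseChange_tmul O rl o m, map_smul, smul_comm, smul_assoc]
          rfl
        | add a b ha hb => simp only [TensorProduct.tmul_add, map_add, ha, hb]
      | add a b ha hb => simp only [map_add, ha, hb]
    rw [hc]
    exact hev.equiv.symm.bijective.comp (hres.equiv.bijective.comp e.bijective)
  exact ⟨injective_of_pi (B := fun q : ↥U => X.ring q.1) β (fun q => (key q).1),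
    surjective_of_pi (B := fun q : ↥U => X.ring q.1) β (fun q => (key q).2)⟩

section Algebras

variable (A : Alg X) (hA : A.IsQcoh) (hUa : (X.restrict U).IsAffine)

/-- evaluation of sections of an algebra -/
def evA (q : U) : letI := (A.sectMap U).toAlgebra
    letI : Algebra (X.sectRing U) (A.carrier q.1) :=
      ((algebraMap (X.ring q.1) (A.carrier q.1)).comp (X.evalRing U q)).toAlgebra
    A.total.sectRing U →ₐ[X.sectRing U] A.carrier q.1 :=
  letI := (A.sectMap U).toAlgebra
  letI : Algebra (X.sectRing U) (A.carrier q.1) :=
    ((algebraMap (X.ring q.1) (A.carrier q.1)).comp (X.evalRing U q)).toAlgebra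
  { A.total.evalRing U q with commutes' := fun _ => rfl }

include hA hUa in
theorem evA_bijective (q : U) :
    letI := (A.sectMap U).toAlgebra
    letI := evAlg U q
    letI : Algebra (X.sectRing U) (A.carrier q.1) :=
      ((algebraMap (X.ring q.1) (A.carrier q.1)).comp (X.evalRing U q)).toAlgebra
    haveI : IsScalarTower (X.sectRing U) (X.ring q.1) (A.carrier q.1) :=
      .of_algebraMap_eq fun _ => rfl
    Bijective (bcHom (X.ring q.1) (evA A q)) := by
  letI := (A.sectMap U).toAlgebra
  letI := evAlg U q
  letI : Algebra (X.sectRing U) (A.carrier q.1) :=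
    ((algebraMap (X.ring q.1) (A.carrier q.1)).comp (X.evalRing U q)).toAlgebra
  haveI : IsScalarTower (X.sectRing U) (X.ring q.1) (A.carrier q.1) :=
    .of_algebraMap_eq fun _ => rfl
  let k : A.toMod.sect U ≃ₗ[X.sectRing U] A.total.sectRing U :=
    { toFun := fun s => ⟨s.1, s.2⟩
      invFun := fun s => ⟨s.1, s.2⟩
      map_add' := fun _ _ => rfl
      map_smul' := fun r s => Subtype.ext (funext fun p =>
        Algebra.smul_def (A := A.carrier p.1) (r.1 p) (s.1 p))
      left_inv := fun _ => rfl
      right_inv := fun _ => rfl }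
  let ek := TensorProduct.congr (LinearEquiv.refl (X.sectRing U) (X.ring q.1)) k
  have hb := (isBCAlong_iff_bijective (A.toMod.evalMod U q)
    ((bcHom (X.ring q.1) (evA A q)).toAddMonoidHom.comp ek.toLinearMap.toAddMonoidHom)
    (fun s m => bcHom_tmul (X.ring q.1) (evA A q) s (k m))).1 (affine_bc hUa A.toMod hA q)
  exact (Function.Bijective.of_comp_iff _ ek.bijective).1 hb

variable (hφ : Module.FaithfullyFlat (X.sectRing U) ((q : ↥U) → X.ring q.1))

include hA hUa hφ in
theorem flat_iff :
    (∀ q : X.pt, q ∈ U → Module.Flat (X.ring q) (A.carrier q)) ↔ (A.sectMap U).Flat := by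
  letI := (A.sectMap U).toAlgebra
  letI : ∀ q : ↥U, Algebra (X.sectRing U) (X.ring q.1) := fun q => evAlg U q
  haveI : Module.FaithfullyFlat (X.sectRing U) ((q : ↥U) → X.ring q.1) := hφ
  constructor
  · intro h
    change Module.Flat (X.sectRing U) (A.total.sectRing U)
    refine flat_of_pi (B := fun q : ↥U => X.ring q.1) (fun q => ?_)
    letI : Algebra (X.sectRing U) (A.carrier q.1) :=
      ((algebraMap (X.ring q.1) (A.carrier q.1)).comp (X.evalRing U q)).toAlgebra
    haveI : IsScalarTower (X.sectRing U) (X.ring q.1) (A.carrier q.1) :=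
      .of_algebraMap_eq fun _ => rfl
    haveI := h q.1 q.2
    haveI : Module.Flat (X.sectRing U) (X.ring q.1) :=
      flat_factor (B := fun q : ↥U => X.ring q.1) q
    haveI : Module.Flat (X.sectRing U) (A.carrier q.1) := Module.Flat.trans _ (X.ring q.1) _
    exact Module.Flat.of_linearEquiv
      ((AlgEquiv.ofBijective _ (evA_bijective A hA hUa q)).toLinearEquiv.restrictScalars _)
  · intro h q hq
    let q' : ↥U := ⟨q, hq⟩
    letI : Algebra (X.sectRing U) (A.carrier q) :=
      ((algebraMap (X.ring q) (A.carrier q)).comp (X.evalRing U q')).toAlgebra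
    letI : Algebra (X.sectRing U) (X.ring q) := evAlg U q'
    haveI : IsScalarTower (X.sectRing U) (X.ring q) (A.carrier q) := .of_algebraMap_eq fun _ => rfl
    haveI : Module.Flat (X.sectRing U) (A.total.sectRing U) := h
    exact Module.Flat.of_linearEquiv
      (AlgEquiv.ofBijective _ (evA_bijective A hA hUa q')).toLinearEquiv.symm

include hA hUa hφ in
theorem finite_iff :
    (∀ q : X.pt, q ∈ U → Module.Finite (X.ring q) (A.carrier q)) ↔ (A.sectMap U).Finite := by
  classical
  letI := (A.sectMap U).toAlgebra
  letI : ∀ q : ↥U, Algebra (X.sectRing U) (X.ring q.1) := fun q => evAlg U q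
  haveI : Module.FaithfullyFlat (X.sectRing U) ((q : ↥U) → X.ring q.1) := hφ
  constructor
  · intro h
    change Module.Finite (X.sectRing U) (A.total.sectRing U)
    haveI := Fintype.ofFinite ↥U
    have hq : ∀ q : ↥U, ∃ s : Finset (A.total.sectRing U),
        Surjective (LinearMap.lTensor (X.ring q.1)
          (Submodule.span (X.sectRing U) (s : Set (A.total.sectRing U))).subtype) := by
      intro q
      haveI := h q.1 q.2
      letI : Algebra (X.sectRing U) (A.carrier q.1) :=
        ((algebraMap (X.ring q.1) (A.carrier q.1)).comp (X.evalRing U q)).toAlgebra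
      haveI : IsScalarTower (X.sectRing U) (X.ring q.1) (A.carrier q.1) :=
        .of_algebraMap_eq fun _ => rfl
      haveI : Module.Finite (X.ring q.1) (X.ring q.1 ⊗[X.sectRing U] A.total.sectRing U) :=
        Module.Finite.equiv (AlgEquiv.ofBijective _ (evA_bijective A hA hUa q)).toLinearEquiv.symm
      obtain ⟨G, hG⟩ := Module.Finite.fg_top (R := X.ring q.1)
        (M := X.ring q.1 ⊗[X.sectRing U] A.total.sectRing U)
      choose S hS using fun t : X.ring q.1 ⊗[X.sectRing U] A.total.sectRing U =>
        TensorProduct.exists_finset t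
      refine ⟨G.biUnion fun t => (S t).image Prod.snd, fun t => ?_⟩
      have ht : t ∈ Submodule.span (X.ring q.1) (G : Set _) := hG ▸ Submodule.mem_top
      induction ht using Submodule.span_induction with
      | mem t ht =>
        refine ⟨∑ p ∈ (S t).attach, p.1.1 ⊗ₜ[X.sectRing U] ⟨p.1.2, Submodule.subset_span
          (Finset.mem_biUnion.2 ⟨t, ht, Finset.mem_image_of_mem _ p.2⟩)⟩, ?_⟩
        rw [map_sum]
        refine Eq.trans ?_ (hS t).symm
        rw [← Finset.sum_attach (S t)]
        exact Finset.sum_congr rfl fun p _ => rfl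
      | zero => exact ⟨0, map_zero _⟩
      | add a b _ _ ha hb =>
        obtain ⟨a', rfl⟩ := ha
        obtain ⟨b', rfl⟩ := hb
        exact ⟨a' + b', map_add _ _ _⟩
      | smul c a _ ha =>
        obtain ⟨a', rfl⟩ := ha
        refine ⟨c • a', ?_⟩
        clear * -
        induction a' using TensorProduct.induction_on with
        | zero => simp
        | tmul x y => simp [TensorProduct.smul_tmul']
        | add a b ha hb => simp only [smul_add, map_add, ha, hb]
    choose s hs using hq
    let T := Submodule.span (X.sectRing U)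
      ((Finset.univ.biUnion s : Finset (A.total.sectRing U)) : Set (A.total.sectRing U))
    haveI : Module.Finite (X.sectRing U) T := Module.Finite.span_of_finite _ (Finset.finite_toSet _)
    refine Module.Finite.of_surjective T.subtype
      (surjective_of_pi (B := fun q : ↥U => X.ring q.1) _ fun q t => ?_)
    obtain ⟨v, rfl⟩ := hs q t
    have hle : Submodule.span (X.sectRing U) (s q : Set (A.total.sectRing U)) ≤ T :=
      Submodule.span_mono (Finset.coe_subset.2 (Finset.subset_biUnion_of_mem s (Finset.mem_univ q)))
    refine ⟨LinearMap.lTensor (X.ring q.1) (Submodule.inclusion hle) v, ?_⟩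
    rw [← LinearMap.lTensor_comp_apply]
    rfl
  · intro h q hq
    let q' : ↥U := ⟨q, hq⟩
    letI : Algebra (X.sectRing U) (A.carrier q) :=
      ((algebraMap (X.ring q) (A.carrier q)).comp (X.evalRing U q')).toAlgebra
    letI : Algebra (X.sectRing U) (X.ring q) := evAlg U q'
    haveI : IsScalarTower (X.sectRing U) (X.ring q) (A.carrier q) := .of_algebraMap_eq fun _ => rfl
    haveI : Module.Finite (X.sectRing U) (A.total.sectRing U) := h
    exact Module.Finite.equiv (AlgEquiv.ofBijective _ (evA_bijective A hA hUa q')).toLinearEquiv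

variable (hψ : (A.total.sectRing U).subtype.FaithfullyFlat)

include hA hUa hφ hψ in
theorem faithfullyFlat_iff :
    (∀ q : X.pt, q ∈ U → Module.FaithfullyFlat (X.ring q) (A.carrier q)) ↔
      (A.sectMap U).FaithfullyFlat := by
  constructor
  · intro h
    rw [RingHom.FaithfullyFlat.iff_flat_and_comap_surjective]
    refine ⟨(flat_iff A hA hUa hφ).1 fun q hq => haveI := h q hq; inferInstance, fun P => ?_⟩
    haveI := hφ
    obtain ⟨P₁, rfl⟩ := PrimeSpectrum.comap_surjective_of_faithfullyFlat
      (A := X.sectRing U) (B := (q : ↥U) → X.ring q.1) P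
    obtain ⟨q, r, rfl⟩ := PrimeSpectrum.exists_comap_evalRingHom_eq P₁
    haveI := h q.1 q.2
    obtain ⟨r', rfl⟩ := PrimeSpectrum.comap_surjective_of_faithfullyFlat
      (A := X.ring q.1) (B := A.carrier q.1) r
    refine ⟨PrimeSpectrum.comap (A.total.evalRing U q) r', ?_⟩
    rw [← PrimeSpectrum.comap_comp_apply, ← PrimeSpectrum.comap_comp_apply,
      ← PrimeSpectrum.comap_comp_apply]
    rfl
  · intro h q hq
    letI := (A.sectMap U).toAlgebra
    let q' : ↥U := ⟨q, hq⟩
    letI : Algebra (X.sectRing U) (A.carrier q) :=
      ((algebraMap (X.ring q) (A.carrier q)).comp (X.evalRing U q')).toAlgebra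
    letI : Algebra (X.sectRing U) (X.ring q) := evAlg U q'
    haveI : IsScalarTower (X.sectRing U) (X.ring q) (A.carrier q) := .of_algebraMap_eq fun _ => rfl
    haveI : Module.FaithfullyFlat (X.sectRing U) (A.total.sectRing U) := h
    exact Module.FaithfullyFlat.of_linearEquiv _ _
      (AlgEquiv.ofBijective _ (evA_bijective A hA hUa q')).toLinearEquiv.symm

include hA hUa hφ in
theorem etale_iff (hX : X.IsFinSp) :
    (∀ q : X.pt, q ∈ U → Algebra.Etale (X.ring q) (A.carrier q)) ↔ (A.sectMap U).Etale := by
  classical
  letI := (A.sectMap U).toAlgebra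
  letI : ∀ q : ↥U, Algebra (X.sectRing U) (X.ring q.1) := fun q => evAlg U q
  haveI : Module.FaithfullyFlat (X.sectRing U) ((q : ↥U) → X.ring q.1) := hφ
  constructor
  · intro h
    change Algebra.Etale (X.sectRing U) (A.total.sectRing U)
    haveI := Fintype.ofFinite ↥U
    haveI hN : IsNoetherianRing (X.sectRing U) := by
      haveI : ∀ q : ↥U, IsNoetherianRing (X.ring q.1) := fun q => hX.1 q.1
      let B := (q : ↥U) → X.ring q.1
      haveI : Module.FaithfullyFlat (X.sectRing U) B := hφ
      haveI : IsNoetherian B (B ⊗[X.sectRing U] X.sectRing U) :=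
        isNoetherian_of_linearEquiv (Algebra.TensorProduct.rid (X.sectRing U) B B).toLinearEquiv.symm
      exact Submodule.IsNoetherian.of_isNoetherian_tensorProduct_of_faithfullyFlat (R := X.sectRing U) (A := B) inferInstance
    haveI : Module.Flat (X.sectRing U) (A.total.sectRing U) :=
      (flat_iff A hA hUa hφ).1 fun q hq => haveI := h q hq; inferInstance
    have hq : ∀ q : ↥U, ∃ s : Finset (A.total.sectRing U),
        Surjective (LinearMap.lTensor (X.ring q.1)
          (Algebra.adjoin (X.sectRing U) (s : Set (A.total.sectRing U))).val.toLinearMap) := by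
      intro q
      haveI := h q.1 q.2
      letI : Algebra (X.sectRing U) (A.carrier q.1) :=
        ((algebraMap (X.ring q.1) (A.carrier q.1)).comp (X.evalRing U q)).toAlgebra
      haveI : IsScalarTower (X.sectRing U) (X.ring q.1) (A.carrier q.1) :=
        .of_algebraMap_eq fun _ => rfl
      haveI : Algebra.FiniteType (X.ring q.1) (X.ring q.1 ⊗[X.sectRing U] A.total.sectRing U) :=
        Algebra.FiniteType.equiv (inferInstance : Algebra.FiniteType (X.ring q.1) (A.carrier q.1))
          (AlgEquiv.ofBijective _ (evA_bijective A hA hUa q)).symm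
      obtain ⟨G, hG⟩ := (inferInstance : Algebra.FiniteType (X.ring q.1)
        (X.ring q.1 ⊗[X.sectRing U] A.total.sectRing U)).out
      choose S hS using fun t : X.ring q.1 ⊗[X.sectRing U] A.total.sectRing U =>
        TensorProduct.exists_finset t
      let s := G.biUnion fun t => (S t).image Prod.snd
      let E := Algebra.adjoin (X.sectRing U) (s : Set (A.total.sectRing U))
      let μ : X.ring q.1 ⊗[X.sectRing U] E →ₐ[X.ring q.1]
          X.ring q.1 ⊗[X.sectRing U] A.total.sectRing U :=
        Algebra.TensorProduct.map (AlgHom.id _ _) E.val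
      have hμ : ∀ v, LinearMap.lTensor (X.ring q.1) E.val.toLinearMap v = μ v := by
        intro v
        induction v using TensorProduct.induction_on with
        | zero => simp
        | tmul x y => simp [μ]
        | add a b ha hb => simp only [map_add, ha, hb]
      refine ⟨s, fun t => ?_⟩
      have ht : t ∈ μ.range := by
        have : Algebra.adjoin (X.ring q.1) (G : Set _) ≤ μ.range := by
          rw [Algebra.adjoin_le_iff]
          intro t ht
          rw [hS t, SetLike.mem_coe]
          refine Subalgebra.sum_mem _ fun p hp => ?_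
          exact ⟨p.1 ⊗ₜ ⟨p.2, Algebra.subset_adjoin
            (Finset.mem_biUnion.2 ⟨t, ht, Finset.mem_image_of_mem _ hp⟩)⟩, rfl⟩
        exact this (hG ▸ Algebra.mem_top)
      obtain ⟨v, rfl⟩ := ht
      exact ⟨v, hμ v⟩
    choose s hs using hq
    let E := Algebra.adjoin (X.sectRing U)
      ((Finset.univ.biUnion s : Finset (A.total.sectRing U)) : Set (A.total.sectRing U))
    have hsur : Surjective E.val.toLinearMap := by
      refine surjective_of_pi (B := fun q : ↥U => X.ring q.1) _ fun q t => ?_
      obtain ⟨v, rfl⟩ := hs q t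
      have hle : Algebra.adjoin (X.sectRing U) (s q : Set (A.total.sectRing U)) ≤ E :=
        Algebra.adjoin_mono (Finset.coe_subset.2
          (Finset.subset_biUnion_of_mem s (Finset.mem_univ q)))
      refine ⟨LinearMap.lTensor (X.ring q.1) (Subalgebra.inclusion hle).toLinearMap v, ?_⟩
      rw [← LinearMap.lTensor_comp_apply]
      rfl
    haveI : Algebra.FiniteType (X.sectRing U) (A.total.sectRing U) := by
      haveI : Algebra.FiniteType (X.sectRing U) E :=
        ⟨(Subalgebra.fg_top E).2 (Subalgebra.fg_adjoin_finset _)⟩
      exact Algebra.FiniteType.of_surjective E.val hsur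
    haveI : Algebra.FinitePresentation (X.sectRing U) (A.total.sectRing U) :=
      Algebra.FinitePresentation.of_finiteType.1 inferInstance
    haveI : Algebra.FormallyUnramified (X.sectRing U) (A.total.sectRing U) := by
      refine ⟨⟨fun a b => ?_⟩⟩
      let Z := Ω[A.total.sectRing U⁄X.sectRing U]
      suffices Injective (0 : Z →ₗ[X.sectRing U] PUnit.{u+1}) from this (Subsingleton.elim _ _)
      refine injective_of_pi (B := fun q : ↥U => X.ring q.1) _ fun q => ?_
      haveI := h q.1 q.2
      letI : Algebra (X.sectRing U) (A.carrier q.1) :=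
        ((algebraMap (X.ring q.1) (A.carrier q.1)).comp (X.evalRing U q)).toAlgebra
      haveI : IsScalarTower (X.sectRing U) (X.ring q.1) (A.carrier q.1) :=
        .of_algebraMap_eq fun _ => rfl
      haveI : Algebra.FormallyUnramified (X.ring q.1)
          (X.ring q.1 ⊗[X.sectRing U] A.total.sectRing U) :=
        Algebra.FormallyUnramified.of_equiv (AlgEquiv.ofBijective _ (evA_bijective A hA hUa q)).symm
      letI : Algebra (A.total.sectRing U) (X.ring q.1 ⊗[X.sectRing U] A.total.sectRing U) :=
        Algebra.TensorProduct.rightAlgebra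
      haveI : Subsingleton (X.ring q.1 ⊗[X.sectRing U] Z) :=
        (KaehlerDifferential.tensorKaehlerEquivBase (X.sectRing U) (X.ring q.1)
          (A.total.sectRing U) (X.ring q.1 ⊗[X.sectRing U] A.total.sectRing U)).subsingleton
      exact fun a b _ => Subsingleton.elim a b
    exact Algebra.Etale.of_formallyUnramified_of_flat
  · intro h q hq
    let q' : ↥U := ⟨q, hq⟩
    letI : Algebra (X.sectRing U) (A.carrier q) :=
      ((algebraMap (X.ring q) (A.carrier q)).comp (X.evalRing U q')).toAlgebra
    letI : Algebra (X.sectRing U) (X.ring q) := evAlg U q'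
    haveI : IsScalarTower (X.sectRing U) (X.ring q) (A.carrier q) := .of_algebraMap_eq fun _ => rfl
    haveI : Algebra.Etale (X.sectRing U) (A.total.sectRing U) := h
    exact Algebra.Etale.of_equiv (AlgEquiv.ofBijective _ (evA_bijective A hA hUa q'))

end Algebras

end GrothLib.FinSp
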