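import Mathlib.RingTheory.TensorProduct.Maps
import Mathlib.RingTheory.TensorProduct.Pi
import Mathlib.RingTheory.IsTensorProduct
import Mathlib.RingTheory.Ideal.Quotient.Operations
import Mathlib.RingTheory.Flat.Basic
import Mathlib.LinearAlgebra.TensorProduct.RightExactness

/-!
# Base change squares of algebras

For `R → S`, an `R`-algebra `A`, an `S`-algebra `A'` and `f : A →ₐ[R] A'`, `bcHom S f` is the
comparison map `S ⊗[R] A →ₐ[S] A'`.  Squares with bijective comparison are stable under products,
tensor products, quotients and (for flat `S`) invariants of a finite family of endomorphisms.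
-/

set_option autoImplicit false

open TensorProduct Function

namespace GrothLib.SchFin

variable {R : Type*} [CommRing R] (S : Type*) [CommRing S] [Algebra R S]
variable {A A' : Type*} [CommRing A] [Algebra R A] [CommRing A'] [Algebra R A'] [Algebra S A']
  [IsScalarTower R S A']
variable {B B' : Type*} [CommRing B] [Algebra R B] [CommRing B'] [Algebra R B'] [Algebra S B']
  [IsScalarTower R S B']

/-- The comparison map of a commutative square of algebras. -/
noncomputable def bcHom (f : A →ₐ[R] A') : S ⊗[R] A →ₐ[S] A' :=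
  Algebra.TensorProduct.lift (Algebra.ofId S A') f (fun _ _ => Commute.all _ _)

@[simp]
lemma bcHom_tmul (f : A →ₐ[R] A') (s : S) (a : A) :
    bcHom S f (s ⊗ₜ[R] a) = s • f a := by
  rw [bcHom, Algebra.TensorProduct.lift_tmul, Algebra.smul_def]
  rfl

lemma isBaseChange_iff (f : A →ₐ[R] A') :
    IsBaseChange S f.toLinearMap ↔ Bijective (bcHom S f) := by
  constructor
  · intro h
    have : ⇑(bcHom S f) = ⇑h.equiv := by
      funext t
      induction t using TensorProduct.induction_on with
      | zero => rw [map_zero, map_zero]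
      | tmul s a => rw [bcHom_tmul, IsBaseChange.equiv_tmul]; rfl
      | add s t hs ht => rw [map_add, map_add, hs, ht]
    rw [this]
    exact h.equiv.bijective
  · intro h
    exact IsBaseChange.of_equiv (LinearEquiv.ofBijective (bcHom S f).toLinearMap h)
      (fun a => by simp)

section Prod

lemma bcHom_prod_bijective (f : A →ₐ[R] A') (g : B →ₐ[R] B') (hf : Bijective (bcHom S f))
    (hg : Bijective (bcHom S g)) (ρ : A × B →ₐ[R] A' × B')
    (hρ : ∀ x, ρ x = (f x.1, g x.2)) :
    Bijective (bcHom S ρ) := by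
  have : ⇑(bcHom S ρ) = Prod.map (bcHom S f) (bcHom S g) ∘
      ⇑(Algebra.TensorProduct.prodRight R S S A B) := by
    funext t
    induction t using TensorProduct.induction_on with
    | zero => apply Prod.ext <;> simp
    | tmul s x =>
      obtain ⟨a, b⟩ := x
      apply Prod.ext <;> simp [hρ, Algebra.TensorProduct.prodRight_tmul]
    | add s t hs ht =>
      simp only [Function.comp_apply, map_add] at hs ht ⊢
      rw [hs, ht]; apply Prod.ext <;> simp
  rw [this]
  exact (Bijective.prodMap hf hg).comp (AlgEquiv.bijective _)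

end Prod

section Tensor

lemma bcHom_tensor_bijective (f : A →ₐ[R] A') (g : B →ₐ[R] B') (hf : Bijective (bcHom S f))
    (hg : Bijective (bcHom S g)) (ρ : A ⊗[R] B →ₐ[R] A' ⊗[S] B')
    (hρ : ∀ a b, ρ (a ⊗ₜ b) = f a ⊗ₜ g b) :
    Bijective (bcHom S ρ) := by
  let eA := AlgEquiv.ofBijective (bcHom S f) hf
  let eB := AlgEquiv.ofBijective (bcHom S g) hg
  let jA : A' →ₐ[S] S ⊗[R] (A ⊗[R] B) :=
    (Algebra.TensorProduct.map (AlgHom.id S S)
      (Algebra.TensorProduct.includeLeft : A →ₐ[R] A ⊗[R] B)).comp eA.symm.toAlgHom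
  let jB : B' →ₐ[S] S ⊗[R] (A ⊗[R] B) :=
    (Algebra.TensorProduct.map (AlgHom.id S S)
      (Algebra.TensorProduct.includeRight : B →ₐ[R] A ⊗[R] B)).comp eB.symm.toAlgHom
  let j : A' ⊗[S] B' →ₐ[S] S ⊗[R] (A ⊗[R] B) :=
    Algebra.TensorProduct.lift jA jB (fun _ _ => Commute.all _ _)
  have hA : ∀ a, eA.symm (f a) = 1 ⊗ₜ a := fun a => by
    apply eA.injective; rw [eA.apply_symm_apply]
    simp [eA]
  have hB : ∀ b, eB.symm (g b) = 1 ⊗ₜ b := fun b => by
    apply eB.injective; rw [eB.apply_symm_apply]
    simp [eB]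
  have h1 : ∀ t, j (bcHom S ρ t) = t := by
    intro t
    induction t using TensorProduct.induction_on with
    | zero => simp
    | tmul s x =>
      induction x using TensorProduct.induction_on with
      | zero => simp
      | tmul a b =>
        simp [hρ, j, jA, jB, hA, hB, TensorProduct.smul_tmul']
      | add x y hx hy => rw [TensorProduct.tmul_add, map_add, map_add, hx, hy]
    | add s t hs ht => rw [map_add, map_add, hs, ht]
  have hcA : ∀ x, bcHom S ρ (jA (eA x)) = eA x ⊗ₜ 1 := by
    intro x
    induction x using TensorProduct.induction_on with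
    | zero => simp
    | tmul s a => simp [jA, eA, hρ, TensorProduct.smul_tmul', hA]
    | add x y hx hy => simp only [map_add] at hx hy ⊢; rw [hx, hy, TensorProduct.add_tmul]
  have hcB : ∀ y, bcHom S ρ (jB (eB y)) = 1 ⊗ₜ eB y := by
    intro x
    induction x using TensorProduct.induction_on with
    | zero => simp
    | tmul s b => simp [jB, eB, hρ, hB]
    | add x y hx hy => simp only [map_add] at hx hy ⊢; rw [hx, hy, TensorProduct.tmul_add]
  refine ⟨fun x y h => by rw [← h1 x, ← h1 y, h], fun z => ⟨j z, ?_⟩⟩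
  induction z using TensorProduct.induction_on with
  | zero => simp
  | tmul a b =>
    obtain ⟨x, rfl⟩ := eA.surjective a
    obtain ⟨y, rfl⟩ := eB.surjective b
    simp only [j, Algebra.TensorProduct.lift_tmul, map_mul, hcA, hcB,
      Algebra.TensorProduct.tmul_mul_tmul, mul_one, one_mul]
  | add s t hs ht => rw [map_add, map_add, hs, ht]

end Tensor

section Quot

variable {Q Q' : Type*} [CommRing Q] [Algebra R Q] [CommRing Q'] [Algebra R Q'] [Algebra S Q']
  [IsScalarTower R S Q']

lemma bcHom_quotient_bijective (f : A →ₐ[R] A') (hf : Bijective (bcHom S f))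
    (π : A →ₐ[R] Q) (π' : A' →ₐ[S] Q') (hπ : Surjective π) (hπ' : Surjective π')
    (ρ : Q →ₐ[R] Q') (hcomm : ∀ a, ρ (π a) = π' (f a))
    (hK : RingHom.ker π' ≤ (RingHom.ker π).map f.toRingHom) :
    Bijective (bcHom S ρ) := by
  let P : S ⊗[R] A →ₐ[S] S ⊗[R] Q := Algebra.TensorProduct.map (AlgHom.id S S) π
  have hP : Surjective P := by
    intro t
    induction t using TensorProduct.induction_on with
    | zero => exact ⟨0, map_zero _⟩
    | tmul s q => obtain ⟨a, rfl⟩ := hπ q; exact ⟨s ⊗ₜ a, by simp [P]⟩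
    | add s t hs ht =>
      obtain ⟨x, rfl⟩ := hs; obtain ⟨y, rfl⟩ := ht; exact ⟨x + y, map_add _ _ _⟩
  have sq : ∀ t, bcHom S ρ (P t) = π' (bcHom S f t) := by
    intro t
    induction t using TensorProduct.induction_on with
    | zero => simp
    | tmul s a => simp [P, hcomm, map_smul]
    | add s t hs ht => rw [map_add, map_add, map_add, map_add, hs, ht]
  let eA := AlgEquiv.ofBijective (bcHom S f) hf
  have hker : ∀ x ∈ (RingHom.ker π).map f.toRingHom, P (eA.symm x) = 0 := by
    intro x hx
    have : (RingHom.ker π).map f.toRingHom ≤ RingHom.ker (P.comp eA.symm.toAlgHom) := by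
      rw [Ideal.map_le_iff_le_comap]
      intro a ha
      have : eA.symm (f a) = 1 ⊗ₜ a := by
        apply eA.injective; rw [eA.apply_symm_apply]; simp [eA]
      simp only [RingHom.mem_ker] at ha
      simp [P, RingHom.mem_ker, this, ha]
    exact this hx
  refine ⟨?_, ?_⟩
  · rw [injective_iff_map_eq_zero]
    intro q hq
    obtain ⟨t, rfl⟩ := hP q
    rw [sq] at hq
    have := hker _ (hK hq)
    rwa [show eA.symm (bcHom S f t) = t from eA.symm_apply_apply t] at this
  · intro q
    obtain ⟨a', rfl⟩ := hπ' q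
    obtain ⟨t, rfl⟩ := hf.2 a'
    exact ⟨P t, sq t⟩

end Quot

section Invariants

variable {ι : Type*} [Finite ι]

/-- The subalgebra of elements fixed by a family of endomorphisms. -/
def fixedAlg (φ : ι → A →ₐ[R] A) : Subalgebra R A where
  carrier := {a | ∀ i, φ i a = a}
  mul_mem' ha hb i := by rw [map_mul, ha i, hb i]
  add_mem' ha hb i := by rw [map_add, ha i, hb i]
  algebraMap_mem' r i := AlgHom.commutes _ _

lemma mem_fixedAlg {φ : ι → A →ₐ[R] A} {a : A} : a ∈ fixedAlg φ ↔ ∀ i, φ i a = a := Iff.rfl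

lemma lTensor_fixedAlg_injective [Module.Flat R S] (φ : ι → A →ₐ[R] A) :
    Injective (Algebra.TensorProduct.map (AlgHom.id S S) (fixedAlg φ).val) :=
  Module.Flat.lTensor_preserves_injective_linearMap (M := S) (fixedAlg φ).val.toLinearMap
    Subtype.val_injective

lemma lTensor_fixedAlg_range [Module.Flat R S] (φ : ι → A →ₐ[R] A) (t : S ⊗[R] A)
    (ht : ∀ i, Algebra.TensorProduct.map (AlgHom.id S S) (φ i) t = t) :
    ∃ s, Algebra.TensorProduct.map (AlgHom.id S S) (fixedAlg φ).val s = t := by
  classical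
  haveI := Fintype.ofFinite ι
  let Δ : A →ₗ[R] (ι → A) := LinearMap.pi (fun i => (φ i).toLinearMap - LinearMap.id)
  have hex : Exact (fixedAlg φ).val.toLinearMap Δ := by
    intro a
    constructor
    · intro h
      exact ⟨⟨a, fun i => sub_eq_zero.1 (congr_fun h i)⟩, rfl⟩
    · rintro ⟨⟨b, hb⟩, rfl⟩
      funext i
      exact sub_eq_zero.2 (hb i)
  have hΔ : LinearMap.lTensor S Δ t = 0 := by
    apply (TensorProduct.piRight R S S (fun _ : ι => A)).injective
    rw [map_zero]
    funext i
    have : ∀ u : S ⊗[R] A, TensorProduct.piRight R S S (fun _ : ι => A) (LinearMap.lTensor S Δ u) i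
        = Algebra.TensorProduct.map (AlgHom.id S S) (φ i) u - u := by
      intro u
      induction u using TensorProduct.induction_on with
      | zero => simp
      | tmul s a => simp [Δ, TensorProduct.tmul_sub]
      | add x y hx hy => simp only [map_add, Pi.add_apply, hx, hy]; abel
    rw [this, ht i, sub_self]; rfl
  obtain ⟨s, hs⟩ := (Module.Flat.lTensor_exact S hex t).1 hΔ
  exact ⟨s, hs⟩

lemma bcHom_fixedAlg_bijective [Module.Flat R S] (f : A →ₐ[R] A') (hf : Bijective (bcHom S f))
    (φ : ι → A →ₐ[R] A) (ψ : ι → A' →ₐ[S] A') (hcomm : ∀ i a, ψ i (f a) = f (φ i a))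
    (ρ : fixedAlg φ →ₐ[R] fixedAlg ψ) (hρ : ∀ a, (ρ a : A') = f (a : A)) :
    Bijective (bcHom S ρ) := by
  have sq : ∀ t, ((bcHom S ρ t : fixedAlg ψ) : A') =
      bcHom S f (Algebra.TensorProduct.map (AlgHom.id S S) (fixedAlg φ).val t) := by
    intro t
    induction t using TensorProduct.induction_on with
    | zero => simp
    | tmul s a => simp [hρ]
    | add x y hx hy => simp only [map_add, Subalgebra.coe_add, hx, hy]
  have hψ : ∀ i u, ψ i (bcHom S f u) =
      bcHom S f (Algebra.TensorProduct.map (AlgHom.id S S) (φ i) u) := by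
    intro i u
    induction u using TensorProduct.induction_on with
    | zero => simp
    | tmul s a => simp [map_smul, hcomm]
    | add x y hx hy => simp only [map_add, hx, hy]
  refine ⟨fun x y h => lTensor_fixedAlg_injective S φ (hf.1 ?_), fun z => ?_⟩
  · rw [← sq, ← sq, h]
  · obtain ⟨u, hu⟩ := hf.2 (z : A')
    obtain ⟨s, hs⟩ := lTensor_fixedAlg_range S φ u (fun i => hf.1 (by rw [← hψ, hu, z.2 i]))
    exact ⟨s, Subtype.ext (by rw [sq, hs, hu])⟩

end Invariants

end GrothLib.SchFin
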