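import Groth.Agent.Lib.SchFin.BaseChange
import Mathlib.RingTheory.Etale.Pi
import Mathlib.RingTheory.Smooth.Fiber
import Mathlib.RingTheory.Flat.Localization
import Mathlib.RingTheory.Flat.FaithfullyFlat.Basic
import Mathlib.RingTheory.Support
import Mathlib.RingTheory.Kaehler.TensorProduct
import Mathlib.RingTheory.LocalRing.Basic
import Mathlib.RingTheory.Noetherian.Basic
import Mathlib.RingTheory.FiniteType

/-!
# Invariants of endomorphisms of a locally split algebra are étale

If `B ⊗[R] A ≅ B ^ n` with `B` faithfully flat over the Noetherian ring `R`, the algebra of fixed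
points of a finite family of endomorphisms of `A` is étale over `R`.
-/

set_option autoImplicit false

open TensorProduct Function

namespace GrothLib.SchFin

universe u

/-- An algebra endomorphism of `L ^ F` over a local ring is induced by a map of index sets. -/
theorem exists_eq_comp {L : Type u} [CommRing L] [IsLocalRing L] {F E : Type*} [Finite F]
    (χ : (F → L) →ₐ[L] (E → L)) : ∃ σ : E → F, ∀ g e, χ g e = g (σ e) := by
  classical
  haveI := Fintype.ofFinite F
  have h : ∀ e, ∃ i, χ (Pi.single i (1 : L)) e = 1 := by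
    intro e
    by_contra hcon
    push Not at hcon
    have hz : ∀ i, χ (Pi.single i (1 : L)) e = 0 := fun i => by
      have hid : IsIdempotentElem (χ (Pi.single i (1 : L)) e) := by
        have : (Pi.single i (1 : L) : F → L) * Pi.single i 1 = Pi.single i 1 := by
          rw [← Pi.single_mul, one_mul]
        change _ * _ = _
        rw [← Pi.mul_apply, ← map_mul, this]
      rcases IsLocalRing.isUnit_or_isUnit_one_sub_self (χ (Pi.single i (1 : L)) e) with h0 | h1
      · refine absurd ?_ (hcon i)
        exact h0.mul_right_cancel (by rw [hid.eq, one_mul])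
      · exact h1.mul_left_eq_zero.1 hid.mul_one_sub_self
    have hsum : χ 1 e = ∑ i, χ (Pi.single i (1 : L)) e := by
      rw [← Finset.sum_apply, ← map_sum]
      exact congr_arg (fun g : F → L => χ g e) (Finset.univ_sum_single (1 : F → L)).symm
    rw [map_one, Finset.sum_eq_zero (fun i _ => hz i)] at hsum
    exact one_ne_zero hsum
  choose σ hσ using h
  refine ⟨σ, fun g e => ?_⟩
  have hg : g * Pi.single (σ e) 1 = g (σ e) • Pi.single (σ e) (1 : L) := by
    funext j
    rcases eq_or_ne j (σ e) with rfl | hj
    · simp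
    · simp [Pi.single_eq_of_ne hj]
  have := congr_fun (congr_arg χ hg) e
  rw [map_mul, map_smul, Pi.mul_apply, Pi.smul_apply, hσ, mul_one, smul_eq_mul, mul_one] at this
  exact this

variable {R A : Type u} [CommRing R] [CommRing A] [Algebra R A] {ι : Type*} [Finite ι]
variable {L : Type u} [CommRing L] [Algebra R L]

/-- Over a local flat `R`-algebra splitting `A`, invariants are a power of the ring. -/
theorem exists_algEquiv_fixedAlg_tensor [IsLocalRing L] [Module.Flat R L] {F : Type} [Finite F]
    (e : L ⊗[R] A ≃ₐ[L] (F → L)) (φ : ι → A →ₐ[R] A) :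
    ∃ (c : Type) (_ : Finite c), Nonempty (L ⊗[R] fixedAlg φ ≃ₐ[L] (c → L)) := by
  let χ : ι → (F → L) →ₐ[L] (F → L) := fun i =>
    (e.toAlgHom.comp (Algebra.TensorProduct.map (AlgHom.id L L) (φ i))).comp e.symm.toAlgHom
  choose σ hσ using fun i => exists_eq_comp (χ i)
  let r : F → F → Prop := fun a b => ∃ i, σ i a = b
  refine ⟨Quot r, inferInstance, ?_⟩
  let P : (Quot r → L) →ₐ[L] (F → L) := AlgHom.pi fun a => Pi.evalAlgHom L (fun _ => L) (Quot.mk r a)
  let ψ : L ⊗[R] fixedAlg φ →ₐ[L] (F → L) :=
    e.toAlgHom.comp (Algebra.TensorProduct.map (AlgHom.id L L) (fixedAlg φ).val)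
  have hψ : Injective ψ := e.injective.comp (lTensor_fixedAlg_injective L φ)
  have hfix : ∀ t i a, ψ t (σ i a) = ψ t a := by
    intro t i a
    rw [← hσ i (ψ t) a]
    refine congr_fun ?_ a
    change χ i (ψ t) = ψ t
    simp only [χ, ψ, AlgHom.comp_apply, AlgEquiv.coe_toAlgHom,
      AlgEquiv.symm_apply_apply]
    congr 1
    induction t using TensorProduct.induction_on with
    | zero => simp
    | tmul l x => simp [x.2 i]
    | add x y hx hy => simp only [map_add, hx, hy]
  let Θ : L ⊗[R] fixedAlg φ →ₐ[L] (Quot r → L) := AlgHom.pi fun q =>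
    (Pi.evalAlgHom L (fun _ => L) q.out).comp ψ
  have hΘ : ∀ t, P (Θ t) = ψ t := by
    intro t
    funext a
    change ψ t (Quot.mk r a).out = ψ t a
    have : Relation.EqvGen r (Quot.mk r a).out a := Quot.eqvGen_exact (Quot.out_eq _)
    have key : ∀ x y, Relation.EqvGen r x y → ψ t x = ψ t y := by
      intro x y h
      induction h with
      | rel x y h => obtain ⟨i, rfl⟩ := h; exact (hfix t i x).symm
      | refl x => rfl
      | symm x y _ h => exact h.symm
      | trans x y z _ _ h h' => exact h.trans h'
    exact key _ _ this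
  refine ⟨AlgEquiv.ofBijective Θ ⟨fun x y h => hψ (by rw [← hΘ, ← hΘ, h]), fun g => ?_⟩⟩
  obtain ⟨t, ht⟩ := lTensor_fixedAlg_range L φ (e.symm (P g)) (fun i => e.injective (by
    rw [e.apply_symm_apply]
    change χ i (P g) = P g
    funext a
    rw [hσ i]
    exact congr_arg g (Quot.sound ⟨i, rfl⟩).symm))
  refine ⟨t, ?_⟩
  funext q
  change ψ t q.out = g q
  simp only [ψ, AlgHom.comp_apply, ht, AlgEquiv.coe_toAlgHom, AlgEquiv.apply_symm_apply]
  exact congr_arg g (Quot.out_eq q)

variable (B : Type u) [CommRing B] [Algebra R B]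

/-- Fixed points in a locally split algebra form an étale algebra. -/
theorem etale_fixedAlg [IsNoetherianRing R] [Module.Finite R A] [Module.FaithfullyFlat R B]
    {n : ℕ} (e : B ⊗[R] A ≃ₐ[B] (Fin n → B)) (φ : ι → A →ₐ[R] A) :
    Algebra.Etale R (fixedAlg φ) := by
  classical
  let E := fixedAlg φ
  haveI : Module.Finite R E := Module.Finite.of_injective E.val.toLinearMap Subtype.val_injective
  haveI : Algebra.FinitePresentation R E := Algebra.FinitePresentation.of_finiteType.1 inferInstance
  have split : ∀ (Q : Ideal B) [Q.IsPrime],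
      ∃ (c : Type) (_ : Finite c), Nonempty (Localization.AtPrime Q ⊗[R] E ≃ₐ[Localization.AtPrime Q]
        (c → Localization.AtPrime Q)) := by
    intro Q _
    haveI : Module.Flat R (Localization.AtPrime Q) := Module.Flat.trans R B _
    let L := Localization.AtPrime Q
    let eL : L ⊗[R] A ≃ₐ[L] (Fin n → L) :=
      ((Algebra.TensorProduct.cancelBaseChange R B L L A).symm.trans
        (Algebra.TensorProduct.congr AlgEquiv.refl e)).trans
        (Algebra.TensorProduct.piScalarRight B L L (Fin n))
    exact exists_algEquiv_fixedAlg_tensor eL φ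
  haveI : Module.Flat B (B ⊗[R] E) := by
    refine Module.flat_of_localized_maximal (B ⊗[R] E) fun Q _ => ?_
    obtain ⟨c, _, ⟨eE⟩⟩ := split Q
    let L := Localization.AtPrime Q
    haveI : Module.Flat B (L ⊗[R] E) := by
      haveI : Module.Flat L (L ⊗[R] E) := Module.Flat.of_linearEquiv eE.toLinearEquiv
      exact Module.Flat.trans B L _
    exact Module.Flat.of_linearEquiv
      (((LocalizedModule.equivTensorProduct Q.primeCompl (B ⊗[R] E)).restrictScalars B).trans
        ((TensorProduct.AlgebraTensorModule.cancelBaseChange R B B L E)))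
  haveI : Module.Flat R E := Module.Flat.of_flat_tensorProduct R E B
  haveI : Algebra.FormallyUnramified R E := by
    constructor
    have hB : Subsingleton (B ⊗[R] Ω[E⁄R]) := by
      rw [← Module.support_eq_empty_iff (R := B), Set.eq_empty_iff_forall_notMem]
      intro Q hQ
      rw [Module.mem_support_iff] at hQ
      obtain ⟨c, _, ⟨eE⟩⟩ := split Q.asIdeal
      let L := Localization.AtPrime Q.asIdeal
      haveI : Algebra.FormallyEtale L (L ⊗[R] E) := Algebra.FormallyEtale.of_equiv eE.symm
      letI : Algebra E (L ⊗[R] E) := Algebra.TensorProduct.rightAlgebra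
      haveI : Subsingleton (L ⊗[R] Ω[E⁄R]) :=
        (KaehlerDifferential.tensorKaehlerEquivBase R L E (L ⊗[R] E)).subsingleton
      haveI : Subsingleton (L ⊗[B] (B ⊗[R] Ω[E⁄R])) :=
        (TensorProduct.AlgebraTensorModule.cancelBaseChange R B B L Ω[E⁄R]).subsingleton
      exact not_subsingleton _
        ((LocalizedModule.equivTensorProduct Q.asIdeal.primeCompl
          (B ⊗[R] Ω[E⁄R])).toEquiv.subsingleton)
    exact Module.FaithfullyFlat.lTensor_reflects_triviality R B _
  exact Algebra.Etale.of_formallyUnramified_of_flat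

end GrothLib.SchFin
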