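import Groth.Agent.Lib.SchFin.Cover
import Groth.Agent.Lib.SchFin.Invariants
import Mathlib.CategoryTheory.Limits.Shapes.Pullback.HasPullback
import Mathlib.CategoryTheory.SingleObj

/-!
# Limits and colimits in the category of étale covers of a finite ringed poset
-/

set_option autoImplicit false

open TensorProduct CategoryTheory Limits Function SchFin GrothLib.SchFin

namespace GrothLib.FinSp

universe u

variable {X : RSpace.{u}}

theorem fet_hom_ext {A B : FEt X} (f g : A ⟶ B) (h : ∀ p a, f.hom.app p a = g.hom.app p a) :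
    f = g :=
  InducedCategory.hom_ext (Alg.hom_ext _ _ fun p => AlgHom.ext (h p))

theorem fet_congr {A B : FEt X} {f g : A ⟶ B} (h : f = g) (p : X.pt) (a : A.obj.carrier p) :
    f.hom.app p a = g.hom.app p a := by rw [h]

theorem fet_mono_of_injective {A B : FEt X} (f : A ⟶ B)
    (hf : ∀ p, Injective (f.hom.app p)) : Mono f :=
  ⟨fun g h e => fet_hom_ext g h fun p a => hf p (fet_congr e p a)⟩

theorem fet_epi_of_surjective {A B : FEt X} (f : A ⟶ B)
    (hf : ∀ p, Surjective (f.hom.app p)) : Epi f :=
  ⟨fun g h e => fet_hom_ext g h fun p b => by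
    obtain ⟨a, rfl⟩ := hf p b
    exact fet_congr e p a⟩

/-- the rings as an étale cover -/
def fetStr (X : RSpace.{u}) : FEt X := ⟨Alg.str X, str_isEtCover X⟩

/-- `fetStr` is initial -/
def fetStrIsInitial (X : RSpace.{u}) : IsInitial (fetStr X) :=
  IsInitial.ofUniqueHom (fun A => ObjectProperty.homMk (strHom A.obj))
    (fun A m => InducedCategory.hom_ext (strHom_ext (A := A.obj) m.hom (strHom A.obj)))

theorem fet_hasInitial (X : RSpace.{u}) : HasInitial (FEt X) :=
  (fetStrIsInitial X).hasInitial

theorem top_map_le {p q : X.pt} (h : p ≤ q) :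
    (⊤ : Ideal ((Alg.str X).carrier p)).map ((Alg.str X).res h) ≤
      (⊤ : Ideal ((Alg.str X).carrier q)) :=
  le_top

/-- the zero algebra as an étale cover -/
def fetZero (hX : X.IsFinSp) : FEt X :=
  ⟨quot (Alg.str X) (fun _ => ⊤) (fun h => top_map_le h),
    quot_isEtCover _ _ (fun h => top_map_le h) hX (str_isEtCover X)
      (fun _ => (Ideal.map_top _).ge) (fun _ => Ideal.top_mul ⊤)⟩

instance fetZero_subsingleton (hX : X.IsFinSp) (p : X.pt) :
    Subsingleton ((fetZero hX).obj.carrier p) :=
  Ideal.Quotient.subsingleton_iff.2 rfl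

/-- the map to the zero algebra -/
def toZero (hX : X.IsFinSp) (A : FEt X) : A ⟶ fetZero hX :=
  ObjectProperty.homMk
    ⟨fun p =>
      { toFun := fun _ => 0
        map_one' := Subsingleton.elim (α := (fetZero hX).obj.carrier p) _ _
        map_mul' := fun _ _ => Subsingleton.elim (α := (fetZero hX).obj.carrier p) _ _
        map_zero' := rfl
        map_add' := fun _ _ => Subsingleton.elim (α := (fetZero hX).obj.carrier p) _ _
        commutes' := fun _ => Subsingleton.elim (α := (fetZero hX).obj.carrier p) _ _ },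
      fun {_ q} _ _ => Subsingleton.elim (α := (fetZero hX).obj.carrier q) _ _⟩

/-- `fetZero` is terminal -/
def fetZeroIsTerminal (hX : X.IsFinSp) : IsTerminal (fetZero hX) :=
  IsTerminal.ofUniqueHom (toZero hX)
    (fun A m => fet_hom_ext m (toZero hX A)
      fun p _ => Subsingleton.elim (α := (fetZero hX).obj.carrier p) _ _)

theorem fet_hasTerminal (hX : X.IsFinSp) : HasTerminal (FEt X) :=
  (fetZeroIsTerminal hX).hasTerminal

/-- product of étale covers -/
def fetProd (hX : X.IsFinSp) (A B : FEt X) : FEt X :=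
  ⟨prod A.obj B.obj, prod_isEtCover _ _ hX A.property B.property⟩

/-- the product fan -/
def fetFan (hX : X.IsFinSp) (A B : FEt X) : BinaryFan A B :=
  BinaryFan.mk (P := fetProd hX A B) (ObjectProperty.homMk (prodFst A.obj B.obj))
    (ObjectProperty.homMk (prodSnd A.obj B.obj))

/-- the product fan is limiting -/
def fetFanIsLimit (hX : X.IsFinSp) (A B : FEt X) : IsLimit (fetFan hX A B) :=
  BinaryFan.IsLimit.mk _ (fun f g => ObjectProperty.homMk (prodLift f.hom g.hom))
    (fun _ _ => rfl) (fun _ _ => rfl)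
    (fun f g m h₁ h₂ => fet_hom_ext _ _ fun p a =>
      Prod.ext (fet_congr h₁ p a) (fet_congr h₂ p a))

theorem fet_hasBinaryProducts (hX : X.IsFinSp) : HasBinaryProducts (FEt X) := by
  haveI : ∀ {A B : FEt X}, HasLimit (pair A B) :=
    fun {A B} => ⟨⟨⟨_, fetFanIsLimit hX A B⟩⟩⟩
  exact hasBinaryProducts_of_hasLimit_pair _

section Pushout

variable {A B C : Alg X} (f : C ⟶ A) (g : C ⟶ B)

/-- the family of ideals cutting out a pushout -/
def pushFam (p : X.pt) : Ideal ((tens A B).carrier p) := pushIdeal (f.app p) (g.app p)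

theorem pushFam_map_le {p q : X.pt} (h : p ≤ q) :
    (pushFam f g p).map ((tens A B).res h) ≤ pushFam f g q := by
  rw [pushFam, pushIdeal, Ideal.map_span, Ideal.span_le]
  rintro _ ⟨_, ⟨c, rfl⟩, rfl⟩
  refine Ideal.subset_span ⟨C.res h c, ?_⟩
  change _ = tensRes A B h _
  rw [map_sub, tensRes_tmul, tensRes_tmul, map_one, map_one, f.compat, g.compat]

theorem pushFam_le_map (hC : C.IsQcoh) {p q : X.pt} (h : p ≤ q) :
    pushFam f g q ≤ (pushFam f g p).map ((tens A B).res h) := by
  rw [pushFam, pushIdeal, Ideal.span_le]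
  rintro _ ⟨c', rfl⟩
  letI := (X.res h).toAlgebra
  letI := compAlg C h
  haveI := compAlg_tower C h
  obtain ⟨t, rfl⟩ := ((isQcoh_iff C).1 hC p q h).2 c'
  rw [SetLike.mem_coe]
  induction t using TensorProduct.induction_on with
  | zero => simp
  | tmul s c =>
    dsimp only
    rw [bcHom_tmul, resHom_apply, map_smul, map_smul, TensorProduct.tmul_smul,
      ← TensorProduct.smul_tmul', ← smul_sub, Algebra.smul_def]
    refine Ideal.mul_mem_left _ _ ?_
    rw [← f.compat, ← g.compat]
    have hm := Ideal.mem_map_of_mem (tensRes A B h) (I := pushIdeal (f.app p) (g.app p))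
      (Ideal.subset_span ⟨c, rfl⟩)
    rw [map_sub, tensRes_tmul, tensRes_tmul, map_one, map_one] at hm
    exact hm
  | add x y hx hy =>
    dsimp only at hx hy ⊢
    rw [map_add, map_add, map_add, TensorProduct.tmul_add, TensorProduct.add_tmul,
      add_sub_add_comm]
    exact add_mem hx hy

/-- pointwise pushout of algebras -/
noncomputable def pushAlg : Alg X := quot (tens A B) (pushFam f g) (fun h => pushFam_map_le f g h)

theorem pushAlg_isEtCover (hX : X.IsFinSp) (hA : A.IsEtCover) (hB : B.IsEtCover)
    (hC : C.IsEtCover) : (pushAlg f g).IsEtCover :=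
  quot_isEtCover _ _ (fun h => pushFam_map_le f g h) hX (tens_isEtCover A B hA hB)
    (fun h => pushFam_le_map f g hC.1 h)
    (fun p => haveI := (hC.2 p).2; isIdempotentElem_pushIdeal (f.app p) (g.app p))

/-- left leg -/
noncomputable def pushInl : A ⟶ pushAlg f g :=
  tensInl A B ≫ quotMk (tens A B) (pushFam f g) (fun h => pushFam_map_le f g h)

/-- right leg -/
noncomputable def pushInr : B ⟶ pushAlg f g :=
  tensInr A B ≫ quotMk (tens A B) (pushFam f g) (fun h => pushFam_map_le f g h)

theorem push_condition : f ≫ pushInl f g = g ≫ pushInr f g :=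
  Alg.hom_ext _ _ fun p => AlgHom.ext fun c => by
    refine Eq.symm ((Ideal.Quotient.mk_eq_mk_iff_sub_mem _ _).2 ?_)
    exact Ideal.subset_span ⟨c, rfl⟩

variable {T : Alg X}

theorem tensLift_vanish (u : A ⟶ T) (v : B ⟶ T) (huv : f ≫ u = g ≫ v) (p : X.pt) :
    ∀ x ∈ pushFam f g p, (tensLift u v).app p x = 0 := by
  intro x hx
  have : pushFam f g p ≤ RingHom.ker ((tensLift u v).app p) := by
    rw [pushFam, pushIdeal, Ideal.span_le]
    rintro _ ⟨c, rfl⟩
    have e : u.app p (f.app p c) = v.app p (g.app p c) :=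
      AlgHom.congr_fun (congr_fun (congr_arg Alg.Hom.app huv) p) c
    change Algebra.TensorProduct.lift (u.app p) (v.app p) (fun _ _ => Commute.all _ _) _ = 0
    rw [map_sub, Algebra.TensorProduct.lift_tmul, Algebra.TensorProduct.lift_tmul, map_one,
      map_one, one_mul, mul_one, e, sub_self]
  exact this hx

/-- map out of a pushout -/
noncomputable def pushDesc (u : A ⟶ T) (v : B ⟶ T) (huv : f ≫ u = g ≫ v) : pushAlg f g ⟶ T :=
  quotLift _ _ (fun h => pushFam_map_le f g h) (tensLift u v) (tensLift_vanish f g u v huv)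

theorem pushInl_desc (u : A ⟶ T) (v : B ⟶ T) (huv : f ≫ u = g ≫ v) :
    pushInl f g ≫ pushDesc f g u v huv = u :=
  Alg.hom_ext _ _ fun p => AlgHom.ext fun a => by
    change Algebra.TensorProduct.lift (u.app p) (v.app p) (fun _ _ => Commute.all _ _) (a ⊗ₜ 1) = _
    rw [Algebra.TensorProduct.lift_tmul, map_one, mul_one]

theorem pushInr_desc (u : A ⟶ T) (v : B ⟶ T) (huv : f ≫ u = g ≫ v) :
    pushInr f g ≫ pushDesc f g u v huv = v :=
  Alg.hom_ext _ _ fun p => AlgHom.ext fun a => by
    change Algebra.TensorProduct.lift (u.app p) (v.app p) (fun _ _ => Commute.all _ _) (1 ⊗ₜ a) = _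
    rw [Algebra.TensorProduct.lift_tmul, map_one, one_mul]

theorem push_hom_ext (m m' : pushAlg f g ⟶ T) (h₁ : pushInl f g ≫ m = pushInl f g ≫ m')
    (h₂ : pushInr f g ≫ m = pushInr f g ≫ m') : m = m' := by
  refine Alg.hom_ext _ _ fun p => Ideal.Quotient.algHom_ext _ ?_
  exact Algebra.TensorProduct.ext
    (AlgHom.ext fun a => AlgHom.congr_fun (congr_fun (congr_arg Alg.Hom.app h₁) p) a)
    (AlgHom.ext fun b => AlgHom.congr_fun (congr_fun (congr_arg Alg.Hom.app h₂) p) b)

end Pushout

section PushoutFEt

variable (hX : X.IsFinSp) {A B C : FEt X} (f : C ⟶ A) (g : C ⟶ B)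

/-- pushout in étale covers -/
noncomputable def fetPush : FEt X :=
  ⟨pushAlg f.hom g.hom, pushAlg_isEtCover _ _ hX A.property B.property C.property⟩

/-- pushout cocone -/
noncomputable def fetPushCocone : PushoutCocone f g :=
  PushoutCocone.mk (W := fetPush hX f g) (ObjectProperty.homMk (pushInl f.hom g.hom))
    (ObjectProperty.homMk (pushInr f.hom g.hom))
    (InducedCategory.hom_ext (push_condition f.hom g.hom))

theorem cocone_hom_condition (s : PushoutCocone f g) : f.hom ≫ s.inl.hom = g.hom ≫ s.inr.hom :=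
  congr_arg InducedCategory.Hom.hom s.condition

/-- the pushout cocone is colimiting -/
noncomputable def fetPushIsColimit : IsColimit (fetPushCocone hX f g) :=
  PushoutCocone.isColimitAux' _ fun s =>
    ⟨ObjectProperty.homMk (pushDesc f.hom g.hom s.inl.hom s.inr.hom (cocone_hom_condition f g s)),
      InducedCategory.hom_ext (pushInl_desc f.hom g.hom _ _ (cocone_hom_condition f g s)),
      InducedCategory.hom_ext (pushInr_desc f.hom g.hom _ _ (cocone_hom_condition f g s)),
      fun {m} h₁ h₂ => InducedCategory.hom_ext (push_hom_ext _ _ m.hom _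
        ((congr_arg InducedCategory.Hom.hom h₁).trans (pushInl_desc f.hom g.hom _ _ (cocone_hom_condition f g s)).symm)
        ((congr_arg InducedCategory.Hom.hom h₂).trans (pushInr_desc f.hom g.hom _ _ (cocone_hom_condition f g s)).symm))⟩

include hX in
theorem fet_hasPushouts : HasPushouts (FEt X) := by
  haveI : ∀ {A B C : FEt X} {f : A ⟶ B} {g : A ⟶ C}, HasColimit (span f g) :=
    fun {_ _ _ f g} => ⟨⟨⟨_, fetPushIsColimit hX f g⟩⟩⟩
  exact hasPushouts_of_hasColimit_span _

end PushoutFEt

section Factor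

variable (hX : X.IsFinSp) {A B : FEt X} (f : A ⟶ B)

/-- pointwise image -/
def fetImage : FEt X :=
  ⟨quot A.obj (fun p => RingHom.ker (f.hom.app p)) (fun h => map_ker_le f.hom h),
    quot_isEtCover _ _ (fun h => map_ker_le f.hom h) hX A.property
      (fun h => ker_le_map f.hom hX A.property.1 B.property.1 h)
      (fun p => by
        haveI := hX.1 p
        haveI := (A.property.2 p).1; haveI := (A.property.2 p).2
        haveI := (B.property.2 p).1; haveI := (B.property.2 p).2
        obtain ⟨e, he, hK⟩ := exists_idempotent_ker (f.hom.app p)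
        rw [hK, IsIdempotentElem, Ideal.span_singleton_mul_span_singleton, he.eq])⟩

/-- projection onto the image -/
def toImage : A ⟶ fetImage hX f :=
  ObjectProperty.homMk (quotMk A.obj (fun p => RingHom.ker (f.hom.app p))
    (fun h => map_ker_le f.hom h))

/-- inclusion of the image -/
def fromImage : fetImage hX f ⟶ B :=
  ObjectProperty.homMk (quotLift A.obj (fun p => RingHom.ker (f.hom.app p))
    (fun h => map_ker_le f.hom h) f.hom (fun _ _ ha => ha))

theorem toImage_fromImage : toImage hX f ≫ fromImage hX f = f := rfl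

theorem toImage_surjective (p : X.pt) : Surjective ((toImage hX f).hom.app p) :=
  Ideal.Quotient.mk_surjective

theorem fromImage_injective (p : X.pt) : Injective ((fromImage hX f).hom.app p) := by
  intro x y h
  obtain ⟨a, rfl⟩ := Ideal.Quotient.mk_surjective x
  obtain ⟨b, rfl⟩ := Ideal.Quotient.mk_surjective y
  refine (Ideal.Quotient.mk_eq_mk_iff_sub_mem a b).2 ?_
  rw [RingHom.mem_ker, map_sub]
  exact sub_eq_zero.2 h

end Factor

section Summand

variable (hX : X.IsFinSp) {A B : FEt X} (f : A ⟶ B)

theorem kerGen_exists (p : X.pt) :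
    ∃ e : A.obj.carrier p, IsIdempotentElem e ∧
      RingHom.ker (f.hom.app p) = Ideal.span {e} ∨ ¬ X.IsFinSp := by
  by_cases hX : X.IsFinSp
  · haveI := hX.1 p
    haveI := (A.property.2 p).1; haveI := (A.property.2 p).2
    haveI := (B.property.2 p).1; haveI := (B.property.2 p).2
    obtain ⟨e, he⟩ := exists_idempotent_ker (f.hom.app p)
    exact ⟨e, Or.inl he⟩
  · exact ⟨0, Or.inr hX⟩

/-- the idempotent generating the kernel at a point -/
noncomputable def kerGen (p : X.pt) : A.obj.carrier p := Classical.choose (kerGen_exists f p)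

include hX in
theorem kerGen_spec (p : X.pt) : IsIdempotentElem (kerGen f p) ∧
    RingHom.ker (f.hom.app p) = Ideal.span {kerGen f p} :=
  (Classical.choose_spec (kerGen_exists f p)).resolve_right (not_not_intro hX)

include hX in
theorem res_kerGen {p q : X.pt} (h : p ≤ q) : A.obj.res h (kerGen f p) = kerGen f q := by
  obtain ⟨hp, hpK⟩ := kerGen_spec hX f p
  obtain ⟨hq, hqK⟩ := kerGen_spec hX f q
  have h1 : RingHom.ker (f.hom.app q) = Ideal.span {A.obj.res h (kerGen f p)} := by
    refine le_antisymm ((ker_le_map f.hom hX A.property.1 B.property.1 h).trans ?_) ?_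
    · rw [hpK, Ideal.map_span, Set.image_singleton]
    · rw [← Set.image_singleton, ← Ideal.map_span, ← hpK]
      exact map_ker_le f.hom h
  rw [hqK] at h1
  have hr : IsIdempotentElem (A.obj.res h (kerGen f p)) := hp.map _
  obtain ⟨c, hc⟩ := Ideal.mem_span_singleton'.1
    (h1 ▸ Ideal.subset_span rfl : A.obj.res h (kerGen f p) ∈ Ideal.span {kerGen f q})
  obtain ⟨d, hd⟩ := Ideal.mem_span_singleton'.1
    (h1 ▸ Ideal.subset_span rfl : kerGen f q ∈ Ideal.span {A.obj.res h (kerGen f p)})
  calc A.obj.res h (kerGen f p)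
      = A.obj.res h (kerGen f p) * kerGen f q := by rw [← hc, mul_assoc, hq.eq]
    _ = kerGen f q := by rw [← hd, mul_comm, mul_assoc, hr.eq]

/-- complementary ideals -/
noncomputable def coKer (p : X.pt) : Ideal (A.obj.carrier p) := Ideal.span {1 - kerGen f p}

include hX in
theorem coKer_map {p q : X.pt} (h : p ≤ q) :
    (coKer f p).map (A.obj.res h) = coKer f q := by
  rw [coKer, Ideal.map_span, Set.image_singleton, map_sub, map_one, res_kerGen hX f h, coKer]

/-- the complementary factor -/
noncomputable def fetCompl : FEt X :=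
  ⟨quot A.obj (coKer f) (fun h => (coKer_map hX f h).le),
    quot_isEtCover _ _ (fun h => (coKer_map hX f h).le) hX A.property
      (fun h => (coKer_map hX f h).ge)
      (fun p => by
        rw [coKer, IsIdempotentElem, Ideal.span_singleton_mul_span_singleton,
          (kerGen_spec hX f p).1.one_sub.eq])⟩

/-- projection to the complementary factor -/
noncomputable def toCompl : A ⟶ fetCompl hX f :=
  ObjectProperty.homMk (quotMk A.obj (coKer f) (fun h => (coKer_map hX f h).le))

theorem pair_bijective (hf : ∀ p, Surjective (f.hom.app p)) (p : X.pt) :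
    Bijective (fun a => (f.hom.app p a, (toCompl hX f).hom.app p a)) := by
  obtain ⟨he, hK⟩ := kerGen_spec hX f p
  constructor
  · intro a b h
    obtain ⟨h1, h2⟩ := Prod.ext_iff.1 h
    obtain ⟨c, hc⟩ := Ideal.mem_span_singleton'.1
      (show a - b ∈ Ideal.span {kerGen f p} by
        rw [← hK, RingHom.mem_ker, map_sub]; exact sub_eq_zero.2 h1)
    obtain ⟨d, hd⟩ := Ideal.mem_span_singleton'.1
      ((Ideal.Quotient.mk_eq_mk_iff_sub_mem a b).1 h2)
    have e1 : (a - b) * kerGen f p = a - b := by rw [← hc, mul_assoc, he.eq]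
    have e2 : (a - b) * kerGen f p = 0 := by
      rw [← hd, mul_assoc, sub_mul, one_mul, he.eq, sub_self, mul_zero]
    exact sub_eq_zero.1 (e1.symm.trans e2)
  · rintro ⟨b, d⟩
    obtain ⟨a, rfl⟩ := hf p b
    obtain ⟨d, rfl⟩ := Ideal.Quotient.mk_surjective d
    refine ⟨a * (1 - kerGen f p) + d * kerGen f p, Prod.ext ?_ ?_⟩
    · have : f.hom.app p (kerGen f p) = 0 := by
        rw [← RingHom.mem_ker, hK]; exact Ideal.subset_span rfl
      simp [this]
    · refine (Ideal.Quotient.mk_eq_mk_iff_sub_mem _ _).2 ?_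
      exact Ideal.mem_span_singleton'.2 ⟨a - d, by ring⟩

variable (hf : ∀ p, Surjective (f.hom.app p))

/-- `A` identified with the product of `B` and the complementary factor. -/
noncomputable def pairEquiv (p : X.pt) :
    A.obj.carrier p ≃ₐ[X.ring p] B.obj.carrier p × (fetCompl hX f).obj.carrier p :=
  AlgEquiv.ofBijective ((f.hom.app p).prod ((toCompl hX f).hom.app p)) (pair_bijective hX f hf p)

/-- map into `A` from maps into both factors -/
noncomputable def summandLift {T : FEt X} (u : T ⟶ B) (v : T ⟶ fetCompl hX f) : T ⟶ A :=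
  ObjectProperty.homMk
    ⟨fun p => (pairEquiv hX f hf p).symm.toAlgHom.comp ((u.hom.app p).prod (v.hom.app p)),
      fun {p q} h t => by
        apply (pairEquiv hX f hf q).injective
        change _ = (pairEquiv hX f hf q) ((pairEquiv hX f hf q).symm _)
        rw [AlgEquiv.apply_symm_apply]
        refine Eq.trans ?_ (show ((B.obj.res h (u.hom.app p t),
            (fetCompl hX f).obj.res h (v.hom.app p t)) :
              B.obj.carrier q × (fetCompl hX f).obj.carrier q) =
            (u.hom.app q (T.obj.res h t), v.hom.app q (T.obj.res h t)) from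
          congr_arg₂ Prod.mk (u.hom.compat h t) (v.hom.compat h t))
        have hpair : ((pairEquiv hX f hf p) ((pairEquiv hX f hf p).symm
            (u.hom.app p t, v.hom.app p t))) = (u.hom.app p t, v.hom.app p t) :=
          AlgEquiv.apply_symm_apply _ _
        refine Prod.ext ?_ ?_
        · exact (f.hom.compat h _).symm.trans
            (congr_arg (B.obj.res h) (Prod.ext_iff.1 hpair).1)
        · exact ((toCompl hX f).hom.compat h _).symm.trans
            (congr_arg ((fetCompl hX f).obj.res h) (Prod.ext_iff.1 hpair).2)⟩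

theorem pairEquiv_summandLift {T : FEt X} (u : T ⟶ B) (v : T ⟶ fetCompl hX f) (p : X.pt)
    (t : T.obj.carrier p) :
    pairEquiv hX f hf p ((summandLift hX f hf u v).hom.app p t) =
      (u.hom.app p t, v.hom.app p t) :=
  AlgEquiv.apply_symm_apply _ _

include hf in
/-- a surjective map exhibits a direct factor -/
theorem nonempty_isLimit_compl : Nonempty (IsLimit (BinaryFan.mk f (toCompl hX f))) :=
  ⟨BinaryFan.IsLimit.mk _ (fun u v => summandLift hX f hf u v)
    (fun u v => fet_hom_ext _ _ fun p t => (Prod.ext_iff.1 (pairEquiv_summandLift hX f hf u v p t)).1)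
    (fun u v => fet_hom_ext _ _ fun p t => (Prod.ext_iff.1 (pairEquiv_summandLift hX f hf u v p t)).2)
    (fun u v m h₁ h₂ => fet_hom_ext _ _ fun p t => (pairEquiv hX f hf p).injective
      ((Prod.ext (fet_congr h₁ p t) (fet_congr h₂ p t) :
        pairEquiv hX f hf p (m.hom.app p t) = (u.hom.app p t, v.hom.app p t)).trans
          (pairEquiv_summandLift hX f hf u v p t).symm))⟩

end Summand

theorem injective_of_mono (hX : X.IsFinSp) {A B : FEt X} (f : A ⟶ B) [Mono f] (p : X.pt) :
    Injective (f.hom.app p) := by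
  let g := toImage hX f
  have hg : ∀ q, Surjective (g.hom.app q) := toImage_surjective hX f
  haveI : Mono g := by
    haveI : Mono (g ≫ fromImage hX f) := by rw [toImage_fromImage]; infer_instance
    exact mono_of_mono g (fromImage hX f)
  let D := fetCompl hX g
  let C := fetProd hX A D
  let a₁ : C ⟶ A := ObjectProperty.homMk (prodFst A.obj D.obj)
  let d₂ : C ⟶ D := ObjectProperty.homMk (prodSnd A.obj D.obj)
  let a₂ : C ⟶ A := summandLift hX g hg (a₁ ≫ g) d₂
  have e : a₁ = a₂ := by
    rw [← cancel_mono g]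
    exact fet_hom_ext _ _ fun q t =>
      (Prod.ext_iff.1 (pairEquiv_summandLift hX g hg (a₁ ≫ g) d₂ q t)).1.symm
  have h := (Prod.ext_iff.1 (pairEquiv_summandLift hX g hg (a₁ ≫ g) d₂ p ((1, 0) :
    A.obj.carrier p × D.obj.carrier p))).2
  rw [show (summandLift hX g hg (a₁ ≫ g) d₂) = a₁ from e.symm] at h
  have h10 : (toCompl hX g).hom.app p 1 = 0 := h
  rw [map_one] at h10
  have : Subsingleton (D.obj.carrier p) := subsingleton_of_zero_eq_one h10.symm
  intro x y hxy
  have hgx : g.hom.app p x = g.hom.app p y := by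
    refine (Ideal.Quotient.mk_eq_mk_iff_sub_mem x y).2 ?_
    rw [RingHom.mem_ker, map_sub]
    exact sub_eq_zero.2 hxy
  exact (pair_bijective hX g hg p).1 (Prod.ext hgx (Subsingleton.elim _ _))

section FixedFEt

variable {A : FEt X} {ι : Type u} [Finite ι] (φ : ι → (A ⟶ A))

/-- local triviality of one étale cover -/
def LocTriv (A : FEt X) : Prop :=
  ∃ (B : Alg X) (n : ℕ), B.IsCovering ∧
    ∀ p : X.pt, Nonempty (TensorProduct (X.ring p) (B.carrier p) (A.obj.carrier p) ≃ₐ[B.carrier p]
      (Fin n → B.carrier p))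

theorem fixed_isEtCover (hX : X.IsFinSp) (hA : LocTriv A) :
    (fixed fun i => (φ i).hom).IsEtCover := by
  obtain ⟨B, n, hB, hs⟩ := hA
  refine ⟨(isQcoh_iff _).2 fun p q h =>
    fixed_bc _ hX h ((isQcoh_iff A.obj).1 A.property.1 p q h), fun p => ?_⟩
  haveI := hX.1 p
  haveI := (A.property.2 p).1
  haveI := (hB.2 p).2
  obtain ⟨e⟩ := hs p
  exact ⟨Module.Finite.of_injective
      (fixedAlg fun i => (φ i).hom.app p).val.toLinearMap Subtype.val_injective,
    etale_fixedAlg (B.carrier p) e (fun i => (φ i).hom.app p)⟩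

/-- fixed points in étale covers -/
def fetFixed (hX : X.IsFinSp) (hA : LocTriv A) : FEt X := ⟨_, fixed_isEtCover φ hX hA⟩

end FixedFEt

section SingleObjLimit

variable (hX : X.IsFinSp) {G : Type u} [Monoid G] [Finite G] (K : SingleObj G ⥤ FEt X)
  (hA : LocTriv (K.obj (SingleObj.star G)))

/-- the invariants cone -/
def invCone : Cone K where
  pt := fetFixed (fun g : G => K.map (X := SingleObj.star G) (Y := SingleObj.star G) g) hX hA
  π :=
    { app := fun _ => ObjectProperty.homMk
        (fixedVal fun g : G => (K.map (X := SingleObj.star G) (Y := SingleObj.star G) g).hom)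
      naturality := fun _ _ g => InducedCategory.hom_ext (Alg.hom_ext _ _ fun p =>
        AlgHom.ext fun a => (a.2 g).symm) }

/-- the invariants cone is limiting -/
def invConeIsLimit : IsLimit (invCone hX K hA) where
  lift s := ObjectProperty.homMk (fixedLift _ (s.π.app (SingleObj.star G)).hom
    (fun g => congr_arg InducedCategory.Hom.hom (s.w (j := SingleObj.star G)
      (j' := SingleObj.star G) g)))
  fac s j := InducedCategory.hom_ext rfl
  uniq s m h := fet_hom_ext _ _ fun p t => Subtype.ext (fet_congr (h (SingleObj.star G)) p t)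

include hX in
theorem fet_hasLimitsOfShape_singleObj (hlt : ∀ A : FEt X, LocTriv A) :
    HasLimitsOfShape (SingleObj G) (FEt X) :=
  ⟨fun K => ⟨⟨⟨_, invConeIsLimit hX K (hlt _)⟩⟩⟩⟩

end SingleObjLimit

end GrothLib.FinSp
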