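import Mathlib.RingTheory.Etale.Basic
import Mathlib.RingTheory.Etale.Pi
import Mathlib.RingTheory.Etale.Descent
import Mathlib.RingTheory.Smooth.Fiber
import Mathlib.RingTheory.Smooth.Flat
import Mathlib.RingTheory.Ideal.IdempotentFG
import Mathlib.RingTheory.Idempotents
import Mathlib.RingTheory.Flat.FaithfullyFlat.Algebra
import Mathlib.RingTheory.Ideal.GoingUp
import Mathlib.RingTheory.Spectrum.Prime.FreeLocus
import Mathlib.RingTheory.Nakayama
import Mathlib.RingTheory.Kaehler.Basic
import Mathlib.Algebra.Module.Projective

/-!
# Finite étale algebras over a Noetherian ring: idempotent kernels, pushouts, products, ranks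
-/

set_option autoImplicit false

open TensorProduct Function

namespace GrothLib.SchFin

universe u

variable {R A B C : Type u} [CommRing R] [CommRing A] [Algebra R A] [CommRing B] [Algebra R B]
  [CommRing C] [Algebra R C]

/-- The kernel of the structure map of a finite projective algebra is generated by an idempotent. -/
theorem exists_idempotent_ker_algebraMap (A B : Type u) [CommRing A] [CommRing B] [Algebra A B]
    [Module.Finite A B] [Module.Projective A B] :
    ∃ e : A, IsIdempotentElem e ∧ RingHom.ker (algebraMap A B) = Ideal.span {e} := by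
  obtain ⟨s, hs⟩ := Module.projective_def'.1 (inferInstance : Module.Projective A B)
  let T : Ideal A := Ideal.span (Set.range fun p : (B →ₗ[A] A) × B => p.1 p.2)
  have hTK : ∀ t ∈ T, ∀ a ∈ RingHom.ker (algebraMap A B), t * a = 0 := by
    intro t ht a ha
    induction ht using Submodule.span_induction with
    | mem x hx =>
      obtain ⟨⟨φ, b⟩, rfl⟩ := hx
      simp only
      rw [mul_comm, ← smul_eq_mul, ← map_smul, Algebra.smul_def, (RingHom.mem_ker).1 ha]
      simp
    | zero => simp
    | add x y _ _ hx hy => rw [add_mul, hx, hy, add_zero]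
    | smul c x _ hx => rw [smul_eq_mul, mul_assoc, hx, mul_zero]
  have hTop : (⊤ : Submodule A B) ≤ T • (⊤ : Submodule A B) := by
    intro b _
    have hb : Finsupp.linearCombination A id (s b) = b := LinearMap.congr_fun hs b
    rw [← hb, Finsupp.linearCombination_apply, Finsupp.sum]
    refine Submodule.sum_mem _ fun m _ => Submodule.smul_mem_smul ?_ Submodule.mem_top
    exact Ideal.subset_span ⟨(Finsupp.lapply m ∘ₗ s, b), rfl⟩
  obtain ⟨r, hr, hr0⟩ := Submodule.exists_sub_one_mem_and_smul_eq_zero_of_fg_of_le_smul T ⊤
    Module.Finite.fg_top hTop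
  have hrK : r ∈ RingHom.ker (algebraMap A B) := by
    rw [RingHom.mem_ker, Algebra.algebraMap_eq_smul_one]
    exact hr0 1 Submodule.mem_top
  have key : ∀ a ∈ RingHom.ker (algebraMap A B), r * a = a := fun a ha => by
    have := hTK _ hr a ha
    rw [sub_mul, one_mul] at this
    exact sub_eq_zero.1 this
  refine ⟨r, key r hrK, le_antisymm (fun a ha => ?_) ((Ideal.span_singleton_le_iff_mem _).2 hrK)⟩
  exact Ideal.mem_span_singleton'.2 ⟨a, by rw [mul_comm, key a ha]⟩

/-- In a finite étale situation a morphism has kernel generated by an idempotent. -/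
theorem exists_idempotent_ker [IsNoetherianRing R] [Module.Finite R A] [Algebra.Etale R A]
    [Module.Finite R B] [Algebra.Etale R B] (f : A →ₐ[R] B) :
    ∃ e : A, IsIdempotentElem e ∧ RingHom.ker f = Ideal.span {e} := by
  letI := f.toRingHom.toAlgebra
  haveI : IsScalarTower R A B := .of_algebraMap_eq fun r => (f.commutes r).symm
  haveI : IsNoetherianRing A := isNoetherian_of_tower R inferInstance
  haveI : Module.Finite A B := Module.Finite.of_restrictScalars_finite R A B
  haveI : Algebra.Etale A B := Algebra.Etale.of_restrictScalars R A B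
  haveI : Module.FinitePresentation A B := Module.finitePresentation_of_finite A B
  haveI : Module.Projective A B := Module.Flat.projective_of_finitePresentation
  exact exists_idempotent_ker_algebraMap A B

/-- A quotient of an étale algebra by a finitely generated idempotent ideal is étale. -/
theorem etale_quotient [IsNoetherianRing R] [Algebra.Etale R A] (K : Ideal A)
    (hK : IsIdempotentElem K) : Algebra.Etale R (A ⧸ K) := by
  haveI : IsNoetherianRing A := Algebra.FiniteType.isNoetherianRing R A
  haveI : Algebra.FormallyEtale A (A ⧸ K) := by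
    rw [Algebra.FormallyEtale.iff_of_surjective Ideal.Quotient.mk_surjective,
      Ideal.Quotient.algebraMap_eq, Ideal.mk_ker]
    exact hK
  haveI : Algebra.FinitePresentation A (A ⧸ K) :=
    Algebra.FinitePresentation.of_finiteType.1 inferInstance
  haveI : Algebra.Etale A (A ⧸ K) := ⟨inferInstance, inferInstance⟩
  exact Algebra.Etale.comp R A (A ⧸ K)

theorem finite_quotient [Module.Finite R A] (K : Ideal A) : Module.Finite R (A ⧸ K) :=
  Module.Finite.of_surjective (Ideal.Quotient.mkₐ R K).toLinearMap Ideal.Quotient.mk_surjective

theorem etale_tensor [Algebra.Etale R A] [Algebra.Etale R B] : Algebra.Etale R (A ⊗[R] B) :=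
  Algebra.Etale.comp R A (A ⊗[R] B)

theorem etale_prod [IsNoetherianRing R] [Module.Finite R A] [Algebra.Etale R A]
    [Module.Finite R B] [Algebra.Etale R B] : Algebra.Etale R (A × B) := by
  haveI : IsNoetherianRing A := isNoetherian_of_tower R inferInstance
  haveI : IsNoetherianRing B := isNoetherian_of_tower R inferInstance
  haveI : Algebra.FinitePresentation R (A × B) :=
    Algebra.FinitePresentation.of_finiteType.1 inferInstance
  let F : Bool → Type u := fun b => cond b A B
  letI : ∀ b, CommRing (F b) := fun b => by cases b <;> dsimp [F] <;> infer_instance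
  letI : ∀ b, Algebra R (F b) := fun b => by cases b <;> dsimp [F] <;> infer_instance
  haveI : ∀ b, Algebra.FormallyEtale R (F b) := fun b => by
    cases b <;> dsimp [F] <;> infer_instance
  let e : (∀ b, F b) ≃ₐ[R] A × B :=
    { toFun := fun x => (x true, x false)
      invFun := fun p b => Bool.rec p.2 p.1 b
      left_inv := fun x => by funext b; cases b <;> rfl
      right_inv := fun p => rfl
      map_mul' := fun _ _ => rfl
      map_add' := fun _ _ => rfl
      commutes' := fun _ => rfl }
  exact ⟨Algebra.FormallyEtale.of_equiv e, inferInstance⟩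

/-- The ideal cutting out the pushout `A ⊗_C B` inside `A ⊗_R B`. -/
def pushIdeal (f : C →ₐ[R] A) (g : C →ₐ[R] B) : Ideal (A ⊗[R] B) :=
  Ideal.span (Set.range fun c : C => (1 : A) ⊗ₜ[R] g c - f c ⊗ₜ[R] (1 : B))

theorem isIdempotentElem_pushIdeal [Algebra.FormallyUnramified R C] (f : C →ₐ[R] A)
    (g : C →ₐ[R] B) : IsIdempotentElem (pushIdeal f g) := by
  have h : IsIdempotentElem (KaehlerDifferential.ideal R C) :=
    (Ideal.cotangent_subsingleton_iff _).mp <| inferInstanceAs <| Subsingleton Ω[C⁄R]
  have hmap : (KaehlerDifferential.ideal R C).map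
      (Algebra.TensorProduct.map f g) = pushIdeal f g := by
    rw [← KaehlerDifferential.span_range_eq_ideal, Ideal.map_span, pushIdeal]
    congr 1
    rw [← Set.range_comp]
    congr 1
    funext c
    simp
  rw [IsIdempotentElem, ← hmap, ← Ideal.map_mul, h.eq]

theorem etale_push [IsNoetherianRing R] [Algebra.Etale R A] [Algebra.Etale R B]
    [Algebra.FormallyUnramified R C] (f : C →ₐ[R] A) (g : C →ₐ[R] B) :
    Algebra.Etale R ((A ⊗[R] B) ⧸ pushIdeal f g) := by
  haveI : Algebra.Etale R (A ⊗[R] B) := etale_tensor
  exact etale_quotient _ (isIdempotentElem_pushIdeal f g)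

/-- An injective map of finite étale algebras is faithfully flat. -/
theorem faithfullyFlat_of_injective [IsNoetherianRing R] [Module.Finite R A] [Algebra.Etale R A]
    [Module.Finite R B] [Algebra.Etale R B] (f : A →ₐ[R] B) (hf : Injective f) :
    f.toRingHom.FaithfullyFlat := by
  letI := f.toRingHom.toAlgebra
  haveI : IsScalarTower R A B := .of_algebraMap_eq fun r => (f.commutes r).symm
  haveI : Module.Finite A B := Module.Finite.of_restrictScalars_finite R A B
  haveI : Algebra.Etale A B := Algebra.Etale.of_restrictScalars R A B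
  haveI : Algebra.IsIntegral A B := inferInstance
  change Module.FaithfullyFlat A B
  refine Module.FaithfullyFlat.of_comap_surjective (fun P => ?_)
  obtain ⟨Q, _, hQ, hQP⟩ := Ideal.exists_ideal_over_prime_of_isIntegral P.asIdeal (⊥ : Ideal B)
    (fun x hx => by
      have : x = 0 := hf (by simpa [RingHom.algebraMap_toAlgebra] using hx)
      simp [this])
  exact ⟨⟨Q, hQ⟩, PrimeSpectrum.ext hQP⟩

/-- An injective map of finite étale algebras stays injective after any base change. -/
theorem lTensor_injective [IsNoetherianRing R] [Module.Finite R A] [Algebra.Etale R A]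
    [Module.Finite R B] [Algebra.Etale R B] (f : A →ₐ[R] B) (hf : Injective f)
    (M : Type u) [AddCommGroup M] [Module R M] :
    Injective (LinearMap.lTensor M f.toLinearMap) := by
  have hff := faithfullyFlat_of_injective f hf
  letI := f.toRingHom.toAlgebra
  haveI : IsScalarTower R A B := .of_algebraMap_eq fun r => (f.commutes r).symm
  haveI : Module.FaithfullyFlat A B := hff
  have h := Module.FaithfullyFlat.tensorProduct_mk_injective (A := A) (B := B) (A ⊗[R] M)
  let e : B ⊗[A] (A ⊗[R] M) ≃ₗ[B] B ⊗[R] M :=
    TensorProduct.AlgebraTensorModule.cancelBaseChange R A B B M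
  have hrt : ∀ t : A ⊗[R] M, e (1 ⊗ₜ t) = LinearMap.rTensor M f.toLinearMap t := by
    intro t
    induction t using TensorProduct.induction_on with
    | zero => simp
    | tmul a m => simp [e, TensorProduct.AlgebraTensorModule.cancelBaseChange_tmul,
        Algebra.smul_def, RingHom.algebraMap_toAlgebra]
    | add x y hx hy => rw [TensorProduct.tmul_add, map_add, map_add, hx, hy]
  rw [LinearMap.lTensor_inj_iff_rTensor_inj]
  intro x y hxy
  rw [← hrt, ← hrt] at hxy
  exact h (e.injective hxy)

end GrothLib.SchFin
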