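import Groth.Prelude.Def_SchFin2
import Groth.Agent.Lib.SchFin.BaseChange
import Groth.Agent.Lib.SchFin.EtaleAlg

/-!
# Constructions on algebras over a finite ringed poset and on étale covers
-/

set_option autoImplicit false

open TensorProduct CategoryTheory Function SchFin GrothLib.SchFin

namespace GrothLib.FinSp

universe u

theorem isBCAlong_iff {R S M N : Type u} [CommRing R] [CommRing S] [AddCommGroup M]
    [AddCommGroup N] [Module R M] [Module S N] {g : R →+* S} (f : M →ₛₗ[g] N)
    [Algebra R S] (hg : algebraMap R S = g) [Module R N] [IsScalarTower R S N]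
    (f' : M →ₗ[R] N) (hf : ∀ m, f' m = f m) : IsBCAlong g f ↔ IsBaseChange S f' := by
  rename_i iA iM iT
  obtain rfl : iA = g.toAlgebra := Algebra.algebra_ext _ _ (fun r => RingHom.congr_fun hg r)
  obtain rfl : iM = Module.compHom N g := Module.ext' _ _ (fun r n => by
    have h := iT.smul_assoc r (1 : S) n
    rw [one_smul] at h
    refine h.symm.trans ?_
    change (g r * 1) • n = g r • n
    rw [mul_one])
  unfold IsBCAlong
  letI : Algebra R S := g.toAlgebra
  letI : Module R N := Module.compHom N g
  have e : ({ toFun := f, map_add' := f.map_add, map_smul' := f.map_smulₛₗ } : M →ₗ[R] N) = f' :=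
    LinearMap.ext fun m => (hf m).symm
  change IsBaseChange S
    ({ toFun := f, map_add' := f.map_add, map_smul' := f.map_smulₛₗ } : M →ₗ[R] N) ↔ _
  rw [e]

variable {X : RSpace.{u}}

theorem res_refl (p : X.pt) : X.res (le_refl p) = RingHom.id _ := RingHom.ext (X.res_self p)

/-- A flat restriction map. -/
theorem flat_res (hX : X.IsFinSp) {p q : X.pt} (h : p ≤ q) :
    letI := (X.res h).toAlgebra; Module.Flat (X.ring p) (X.ring q) :=
  hX.2 p q h

section Qcoh

variable (A : Alg X) {p q : X.pt} (h : p ≤ q)

/-- the ring of `p` acting on the value at `q` -/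
abbrev compAlg : Algebra (X.ring p) (A.carrier q) :=
  ((algebraMap (X.ring q) (A.carrier q)).comp (X.res h)).toAlgebra

theorem compAlg_tower : letI := (X.res h).toAlgebra; letI := compAlg A h
    IsScalarTower (X.ring p) (X.ring q) (A.carrier q) :=
  letI := (X.res h).toAlgebra; letI := compAlg A h
  .of_algebraMap_eq fun _ => rfl

/-- the restriction as an algebra map -/
def resHom : letI := compAlg A h; A.carrier p →ₐ[X.ring p] A.carrier q :=
  letI := compAlg A h
  { A.res h with commutes' := fun a => A.res_algebraMap h a }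

theorem resHom_apply (b : A.carrier p) : resHom A h b = A.res h b := rfl

/-- comparison map of the value at `p` base changed to `q` with the value at `q` -/
def BC : Prop :=
  letI := (X.res h).toAlgebra
  letI := compAlg A h
  haveI := compAlg_tower A h
  Bijective (bcHom (X.ring q) (resHom A h))

theorem bc_iff : BC A h ↔ IsBCAlong (X.res h) (A.toMod.res h) := by
  letI := (X.res h).toAlgebra
  letI := compAlg A h
  haveI := compAlg_tower A h
  rw [BC, ← isBaseChange_iff]
  exact (@isBCAlong_iff (X.ring p) (X.ring q) (A.carrier p) (A.carrier q) _ _ _ _ _ _ _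
    (A.toMod.res h) _ rfl _ (compAlg_tower A h) (resHom A h).toLinearMap (fun _ => rfl)).symm

/-- Recognising a base change square by an additive bijection. -/
theorem bc_of_bijective
    (F : letI := (X.res h).toAlgebra; X.ring q ⊗[X.ring p] A.carrier p →+ A.carrier q)
    (hF : letI := (X.res h).toAlgebra; ∀ (s : X.ring q) a, F (s ⊗ₜ a) = s • A.res h a)
    (hb : Bijective F) : BC A h := by
  letI := (X.res h).toAlgebra
  letI := compAlg A h
  haveI := compAlg_tower A h
  have : ⇑(bcHom (X.ring q) (resHom A h)) = ⇑F := by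
    funext t
    induction t using TensorProduct.induction_on with
    | zero => rw [map_zero, map_zero]
    | tmul s a => rw [bcHom_tmul, hF]; rfl
    | add x y hx hy => rw [map_add, map_add, hx, hy]
  unfold BC
  rw [this]
  exact hb

theorem isQcoh_iff : A.IsQcoh ↔ ∀ p q (h : p ≤ q), BC A h :=
  ⟨fun H p q h => (bc_iff A h).2 (H p q h), fun H p q h => (bc_iff A h).1 (H p q h)⟩

end Qcoh

section Str

theorem bc_str {p q : X.pt} (h : p ≤ q) : BC (Alg.str X) h := by
  letI := (X.res h).toAlgebra
  let e : X.ring q ⊗[X.ring p] X.ring p ≃ₐ[X.ring q] X.ring q :=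
    Algebra.TensorProduct.rid (X.ring p) (X.ring q) (X.ring q)
  refine bc_of_bijective (Alg.str X) h e.toRingEquiv.toAddEquiv.toAddMonoidHom ?_ e.bijective
  intro s a
  change (Algebra.TensorProduct.rid (X.ring p) (X.ring q) (X.ring q)) (s ⊗ₜ a) = s * X.res h a
  rw [Algebra.TensorProduct.rid_tmul, Algebra.smul_def, mul_comm]
  rfl

theorem str_isEtCover (X : RSpace.{u}) : (Alg.str X).IsEtCover :=
  ⟨(isQcoh_iff _).2 fun _ _ h => bc_str h, fun p =>
    ⟨(inferInstance : Module.Finite (X.ring p) (X.ring p)),
      (inferInstance : Algebra.Etale (X.ring p) (X.ring p))⟩⟩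

/-- The unique morphism out of the rings. -/
def strHom (A : Alg X) : Alg.str X ⟶ A :=
  ⟨fun p => Algebra.ofId (X.ring p) (A.carrier p), fun h a => A.res_algebraMap h a⟩

theorem strHom_ext {A : Alg X} (f g : Alg.str X ⟶ A) : f = g :=
  Alg.hom_ext f g fun p => AlgHom.ext fun a => (f.app p).commutes a |>.trans ((g.app p).commutes a).symm

end Str

section Quot

variable (A : Alg X) (K : ∀ p, Ideal (A.carrier p))
  (hK : ∀ {p q : X.pt} (h : p ≤ q), (K p).map (A.res h) ≤ K q)

/-- Quotient of an algebra by a compatible family of ideals. -/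
@[reducible] def quot : Alg X where
  carrier p := A.carrier p ⧸ K p
  res h := Ideal.quotientMap _ (A.res h) (Ideal.map_le_iff_le_comap.1 (hK h))
  res_algebraMap h a := by
    change Ideal.quotientMap _ (A.res h) _ (Ideal.Quotient.mk _ (algebraMap _ _ a)) = _
    rw [Ideal.quotientMap_mk, A.res_algebraMap]
    rfl
  res_self p b := by
    obtain ⟨b, rfl⟩ := Ideal.Quotient.mk_surjective b
    rw [Ideal.quotientMap_mk, A.res_self]
  res_comp h h' b := by
    obtain ⟨b, rfl⟩ := Ideal.Quotient.mk_surjective b
    rw [Ideal.quotientMap_mk, Ideal.quotientMap_mk, Ideal.quotientMap_mk, A.res_comp]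

/-- The projection to the quotient. -/
def quotMk : A ⟶ quot A K hK :=
  ⟨fun p => Ideal.Quotient.mkₐ (X.ring p) (K p), fun _ _ => rfl⟩

theorem quotMk_surjective (p : X.pt) : Surjective ((quotMk A K hK).app p) :=
  Ideal.Quotient.mk_surjective

/-- Factorisation through the quotient. -/
def quotLift {B : Alg X} (f : A ⟶ B) (hf : ∀ p, ∀ a ∈ K p, f.app p a = 0) :
    quot A K hK ⟶ B :=
  ⟨fun p => Ideal.Quotient.liftₐ (K p) (f.app p) (hf p), fun {p q} h b => by
    obtain ⟨b, rfl⟩ := Ideal.Quotient.mk_surjective b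
    exact f.compat h b⟩

theorem quotMk_quotLift {B : Alg X} (f : A ⟶ B) (hf : ∀ p, ∀ a ∈ K p, f.app p a = 0) :
    quotMk A K hK ≫ quotLift A K hK f hf = f := rfl

theorem quot_hom_ext {B : Alg X} (f g : quot A K hK ⟶ B)
    (h : quotMk A K hK ≫ f = quotMk A K hK ≫ g) : f = g := by
  refine Alg.hom_ext f g fun p => AlgHom.ext fun b => ?_
  obtain ⟨b, rfl⟩ := Ideal.Quotient.mk_surjective b
  exact AlgHom.congr_fun (congr_fun (congr_arg Alg.Hom.app h) p) b

theorem quot_bc {p q : X.pt} (h : p ≤ q) (hA : BC A h) (hK' : K q ≤ (K p).map (A.res h)) :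
    BC (quot A K hK) h := by
  letI := (X.res h).toAlgebra
  letI := compAlg A h
  haveI := compAlg_tower A h
  letI := compAlg (quot A K hK) h
  haveI := compAlg_tower (quot A K hK) h
  refine bcHom_quotient_bijective (X.ring q) (resHom A h) hA ((quotMk A K hK).app p)
    ((quotMk A K hK).app q) (quotMk_surjective A K hK p) (quotMk_surjective A K hK q)
    (resHom (quot A K hK) h) (fun _ => rfl) ?_
  intro x hx
  have hx' : x ∈ K q := Ideal.Quotient.eq_zero_iff_mem.1 hx
  have hk : RingHom.ker ((quotMk A K hK).app p) = K p := Ideal.mk_ker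
  rw [hk]
  exact hK' hx'

theorem quot_isEtCover (hX : X.IsFinSp) (hA : A.IsEtCover)
    (hK' : ∀ {p q : X.pt} (h : p ≤ q), K q ≤ (K p).map (A.res h))
    (hid : ∀ p, IsIdempotentElem (K p)) : (quot A K hK).IsEtCover := by
  refine ⟨(isQcoh_iff _).2 fun p q h => quot_bc A K hK h ((isQcoh_iff A).1 hA.1 p q h) (hK' h),
    fun p => ?_⟩
  haveI := hX.1 p
  haveI := (hA.2 p).1
  haveI := (hA.2 p).2
  exact ⟨finite_quotient (K p), etale_quotient (K p) (hid p)⟩

end Quot

section Ker

variable {A B : Alg X} (f : A ⟶ B)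

theorem map_ker_le {p q : X.pt} (h : p ≤ q) :
    (RingHom.ker (f.app p)).map (A.res h) ≤ RingHom.ker (f.app q) := by
  rw [Ideal.map_le_iff_le_comap]
  intro a ha
  rw [Ideal.mem_comap, RingHom.mem_ker, ← f.compat, (RingHom.mem_ker).1 ha, map_zero]

theorem ker_le_map (hX : X.IsFinSp) (hA : A.IsQcoh) (hB : B.IsQcoh) {p q : X.pt} (h : p ≤ q) :
    RingHom.ker (f.app q) ≤ (RingHom.ker (f.app p)).map (A.res h) := by
  letI := (X.res h).toAlgebra
  letI := compAlg A h
  haveI := compAlg_tower A h
  letI := compAlg B h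
  haveI := compAlg_tower B h
  haveI : Module.Flat (X.ring p) (X.ring q) := flat_res hX h
  intro x hx
  obtain ⟨t, rfl⟩ := ((isQcoh_iff A).1 hA p q h).2 x
  have sq : ∀ u, f.app q (bcHom (X.ring q) (resHom A h) u) =
      bcHom (X.ring q) (resHom B h) (LinearMap.lTensor (X.ring q) (f.app p).toLinearMap u) := by
    intro u
    induction u using TensorProduct.induction_on with
    | zero => simp
    | tmul s a =>
      rw [LinearMap.lTensor_tmul, bcHom_tmul, bcHom_tmul, map_smul]
      exact congr_arg (s • ·) (f.compat h a).symm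
    | add x y hx hy => simp only [map_add, hx, hy]
  have hz : LinearMap.lTensor (X.ring q) (f.app p).toLinearMap t = 0 :=
    ((isQcoh_iff B).1 hB p q h).1 (by rw [← sq, map_zero]; exact hx)
  obtain ⟨s, rfl⟩ := (Module.Flat.lTensor_exact (X.ring q)
    (LinearMap.exact_subtype_ker_map (f.app p).toLinearMap) t).1 hz
  clear hx hz
  induction s using TensorProduct.induction_on with
  | zero => simp
  | tmul s k =>
    rw [LinearMap.lTensor_tmul, bcHom_tmul, Algebra.smul_def]
    exact Ideal.mul_mem_left _ _ (Ideal.mem_map_of_mem (A.res h) k.2)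
  | add x y hx hy => rw [map_add, map_add]; exact add_mem hx hy

end Ker

section Tens

variable (A B : Alg X)

/-- restriction on the pointwise tensor product -/
def tensRes {p q : X.pt} (h : p ≤ q) :
    A.carrier p ⊗[X.ring p] B.carrier p →+* A.carrier q ⊗[X.ring q] B.carrier q :=
  letI := (X.res h).toAlgebra
  letI := compAlg A h
  haveI := compAlg_tower A h
  letI := compAlg B h
  haveI := compAlg_tower B h
  (Algebra.TensorProduct.lift
    ((Algebra.TensorProduct.includeLeft :
      A.carrier q →ₐ[X.ring p] A.carrier q ⊗[X.ring q] B.carrier q).comp (resHom A h))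
    (((Algebra.TensorProduct.includeRight :
      B.carrier q →ₐ[X.ring q] A.carrier q ⊗[X.ring q] B.carrier q).restrictScalars (X.ring p)).comp
        (resHom B h))
    (fun _ _ => Commute.all _ _)).toRingHom

theorem tensRes_tmul {p q : X.pt} (h : p ≤ q) (a : A.carrier p) (b : B.carrier p) :
    tensRes A B h (a ⊗ₜ b) = A.res h a ⊗ₜ B.res h b := by
  simp [tensRes, resHom_apply]

/-- Pointwise tensor product of algebras. -/
@[reducible] noncomputable def tens : Alg X where
  carrier p := A.carrier p ⊗[X.ring p] B.carrier p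
  res h := tensRes A B h
  res_algebraMap h a := by
    rw [Algebra.TensorProduct.algebraMap_apply, tensRes_tmul, map_one, A.res_algebraMap,
      Algebra.TensorProduct.algebraMap_apply]
  res_self p t := by
    induction t using TensorProduct.induction_on with
    | zero => rw [map_zero]
    | tmul a b => rw [tensRes_tmul, A.res_self, B.res_self]
    | add s t hs ht => rw [map_add, hs, ht]
  res_comp h h' t := by
    induction t using TensorProduct.induction_on with
    | zero => rw [map_zero, map_zero, map_zero]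
    | tmul a b => rw [tensRes_tmul, tensRes_tmul, tensRes_tmul, A.res_comp, B.res_comp]
    | add s t hs ht => rw [map_add, map_add, map_add, hs, ht]

theorem tens_res_tmul {p q : X.pt} (h : p ≤ q) (a : A.carrier p) (b : B.carrier p) :
    (tens A B).res h (a ⊗ₜ b) = A.res h a ⊗ₜ B.res h b := tensRes_tmul A B h a b

theorem tens_bc {p q : X.pt} (h : p ≤ q) (hA : BC A h) (hB : BC B h) : BC (tens A B) h := by
  letI := (X.res h).toAlgebra
  letI := compAlg A h
  haveI := compAlg_tower A h
  letI := compAlg B h
  haveI := compAlg_tower B h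
  let ρ : A.carrier p ⊗[X.ring p] B.carrier p →ₐ[X.ring p] A.carrier q ⊗[X.ring q] B.carrier q :=
    { tensRes A B h with
      commutes' := fun a => by
        change tensRes A B h _ = _
        rw [Algebra.TensorProduct.algebraMap_apply, tensRes_tmul, map_one, A.res_algebraMap]
        rfl }
  have hb := bcHom_tensor_bijective (X.ring q) (resHom A h) (resHom B h) hA hB ρ
    (fun a b => tensRes_tmul A B h a b)
  exact bc_of_bijective (tens A B) h (bcHom (X.ring q) ρ).toAddMonoidHom
    (fun s a => bcHom_tmul (X.ring q) ρ s a) hb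

theorem tens_isEtCover (hA : A.IsEtCover) (hB : B.IsEtCover) : (tens A B).IsEtCover := by
  refine ⟨(isQcoh_iff _).2 fun p q h =>
    tens_bc A B h ((isQcoh_iff A).1 hA.1 p q h) ((isQcoh_iff B).1 hB.1 p q h), fun p => ?_⟩
  haveI := (hA.2 p).1
  haveI := (hA.2 p).2
  haveI := (hB.2 p).1
  haveI := (hB.2 p).2
  exact ⟨(inferInstance : Module.Finite (X.ring p) (A.carrier p ⊗[X.ring p] B.carrier p)),
    (etale_tensor : Algebra.Etale (X.ring p) (A.carrier p ⊗[X.ring p] B.carrier p))⟩

/-- left inclusion -/
noncomputable def tensInl : A ⟶ tens A B :=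
  ⟨fun p => (Algebra.TensorProduct.includeLeft :
      A.carrier p →ₐ[X.ring p] A.carrier p ⊗[X.ring p] B.carrier p),
    fun h a => (tens_res_tmul A B h a 1).trans (by rw [map_one]; rfl)⟩

/-- right inclusion -/
noncomputable def tensInr : B ⟶ tens A B :=
  ⟨fun p => (Algebra.TensorProduct.includeRight :
      B.carrier p →ₐ[X.ring p] A.carrier p ⊗[X.ring p] B.carrier p),
    fun h b => (tens_res_tmul A B h 1 b).trans (by rw [map_one]; rfl)⟩

variable {A B}

/-- map out of a tensor product -/
noncomputable def tensLift {T : Alg X} (f : A ⟶ T) (g : B ⟶ T) : tens A B ⟶ T :=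
  ⟨fun p => Algebra.TensorProduct.lift (f.app p) (g.app p) (fun _ _ => Commute.all _ _),
    fun {p q} h t => by
      induction t using TensorProduct.induction_on with
      | zero => simp
      | tmul a b =>
        rw [tens_res_tmul, Algebra.TensorProduct.lift_tmul, map_mul, f.compat, g.compat]
        rfl
      | add x y hx hy =>
        rw [map_add, map_add, hx, hy, map_add ((tens A B).res h)]
        exact (map_add _ _ _).symm⟩

end Tens

section Prod

variable (A B : Alg X)

/-- Pointwise product of algebras. -/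
@[reducible] def prod : Alg X where
  carrier p := A.carrier p × B.carrier p
  res h := (A.res h).prodMap (B.res h)
  res_algebraMap h a := Prod.ext (A.res_algebraMap h a) (B.res_algebraMap h a)
  res_self p x := Prod.ext (A.res_self p x.1) (B.res_self p x.2)
  res_comp h h' x := Prod.ext (A.res_comp h h' x.1) (B.res_comp h h' x.2)

/-- first projection -/
def prodFst : prod A B ⟶ A := ⟨fun p => AlgHom.fst _ _ _, fun _ _ => rfl⟩
/-- second projection -/
def prodSnd : prod A B ⟶ B := ⟨fun p => AlgHom.snd _ _ _, fun _ _ => rfl⟩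

variable {A B} in
/-- map into a product -/
def prodLift {T : Alg X} (f : T ⟶ A) (g : T ⟶ B) : T ⟶ prod A B :=
  ⟨fun p => (f.app p).prod (g.app p), fun h b => Prod.ext (f.compat h b) (g.compat h b)⟩

theorem prod_bc {p q : X.pt} (h : p ≤ q) (hA : BC A h) (hB : BC B h) : BC (prod A B) h := by
  letI := (X.res h).toAlgebra
  letI := compAlg A h
  haveI := compAlg_tower A h
  letI := compAlg B h
  haveI := compAlg_tower B h
  let ρ : A.carrier p × B.carrier p →ₐ[X.ring p] A.carrier q × B.carrier q :=
    (resHom A h).prodMap (resHom B h)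
  have hb := bcHom_prod_bijective (X.ring q) (resHom A h) (resHom B h) hA hB ρ (fun _ => rfl)
  exact bc_of_bijective (prod A B) h (bcHom (X.ring q) ρ).toAddMonoidHom
    (fun s a => bcHom_tmul (X.ring q) ρ s a) hb

theorem prod_isEtCover (hX : X.IsFinSp) (hA : A.IsEtCover) (hB : B.IsEtCover) :
    (prod A B).IsEtCover := by
  refine ⟨(isQcoh_iff _).2 fun p q h =>
    prod_bc A B h ((isQcoh_iff A).1 hA.1 p q h) ((isQcoh_iff B).1 hB.1 p q h), fun p => ?_⟩
  haveI := hX.1 p
  haveI := (hA.2 p).1
  haveI := (hA.2 p).2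
  haveI := (hB.2 p).1
  haveI := (hB.2 p).2
  exact ⟨(inferInstance : Module.Finite (X.ring p) (A.carrier p × B.carrier p)),
    (etale_prod : Algebra.Etale (X.ring p) (A.carrier p × B.carrier p))⟩

end Prod

section Fixed

variable {A : Alg X} {ι : Type*} [Finite ι] (φ : ι → (A ⟶ A))

/-- fixed points of a family of endomorphisms -/
@[reducible] def fixed : Alg X where
  carrier p := fixedAlg (fun i => (φ i).app p)
  res {p q} h := ((A.res h).comp (fixedAlg (fun i => (φ i).app p)).val.toRingHom).codRestrict _
    (fun a i => by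
      change (φ i).app q (A.res h a.1) = A.res h a.1
      rw [← (φ i).compat, a.2 i])
  res_algebraMap h a := Subtype.ext (A.res_algebraMap h a)
  res_self p b := Subtype.ext (A.res_self p b.1)
  res_comp h h' b := Subtype.ext (A.res_comp h h' b.1)

/-- inclusion of fixed points -/
def fixedVal : fixed φ ⟶ A := ⟨fun p => (fixedAlg (fun i => (φ i).app p)).val, fun _ _ => rfl⟩

theorem fixedVal_comp (i : ι) : fixedVal φ ≫ φ i = fixedVal φ :=
  Alg.hom_ext _ _ fun _ => AlgHom.ext fun a => a.2 i

/-- map into fixed points -/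
def fixedLift {T : Alg X} (f : T ⟶ A) (hf : ∀ i, f ≫ φ i = f) : T ⟶ fixed φ :=
  ⟨fun p => (f.app p).codRestrict _ (fun t i =>
      AlgHom.congr_fun (congr_fun (congr_arg Alg.Hom.app (hf i)) p) t),
    fun h b => Subtype.ext (f.compat h b)⟩

theorem fixed_bc (hX : X.IsFinSp) {p q : X.pt} (h : p ≤ q) (hA : BC A h) : BC (fixed φ) h := by
  letI := (X.res h).toAlgebra
  letI := compAlg A h
  haveI := compAlg_tower A h
  haveI : Module.Flat (X.ring p) (X.ring q) := flat_res hX h
  let ρ : fixedAlg (fun i => (φ i).app p) →ₐ[X.ring p] fixedAlg (fun i => (φ i).app q) :=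
    ((resHom A h).comp (fixedAlg (fun i => (φ i).app p)).val).codRestrict
      ((fixedAlg (fun i => (φ i).app q)).restrictScalars (X.ring p))
      (fun a i => by
        change (φ i).app q (A.res h a.1) = A.res h a.1
        rw [← (φ i).compat, a.2 i])
  have hb := bcHom_fixedAlg_bijective (X.ring q) (resHom A h) hA (fun i => (φ i).app p)
    (fun i => (φ i).app q) (fun i a => ((φ i).compat h a).symm) ρ (fun _ => rfl)
  exact bc_of_bijective (fixed φ) h (bcHom (X.ring q) ρ).toAddMonoidHom
    (fun s a => bcHom_tmul (X.ring q) ρ s a) hb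

end Fixed

end GrothLib.FinSp
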