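import Groth.Agent.Lib.SchFin.Rank
import Mathlib.RingTheory.Etale.Finite
import Mathlib.RingTheory.MvPolynomial.Basic
import Mathlib.CategoryTheory.Limits.Constructions.FiniteProductsOfBinaryProducts
import Mathlib.CategoryTheory.Limits.FintypeCat
import Mathlib.CategoryTheory.Limits.Preserves.Shapes.Terminal
import Mathlib.FieldTheory.IsAlgClosed.Basic

/-!
# The fibre functor of a geometric point of a finite ringed poset
-/

set_option autoImplicit false

open TensorProduct CategoryTheory Limits Function SchFin GrothLib.SchFin Opposite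

namespace GrothLib.SchFin

universe u

/-- Two points of a finite algebra with values in a domain which agree on the invariants of a
finite group differ by an element of the group. -/
theorem exists_comp_eq {A Ω ι : Type u} [CommRing A] [CommRing Ω] [IsDomain Ω] [Finite ι]
    (s : Finset A) (act : ι → A →+* A) (i₀ : ι) (h₀ : ∀ a, act i₀ a = a)
    (hperm : ∀ i, ∃ π : Equiv.Perm ι, ∀ j a, act i (act j a) = act (π j) a)
    (φ ψ : A →+* Ω) (h : ∀ a, (∀ i, act i a = a) → φ a = ψ a) :
    ∃ i, ∀ a ∈ s, ψ a = φ (act i a) := by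
  classical
  haveI := Fintype.ofFinite ι
  let σ := Option s
  let a : MvPolynomial σ A := ∑ x : s, MvPolynomial.C (x : A) * MvPolynomial.X (some x)
  let N : MvPolynomial σ A := ∏ i, (MvPolynomial.X none - MvPolynomial.map (act i) a)
  have hN : ∀ i, MvPolynomial.map (act i) N = N := by
    intro i
    obtain ⟨π, hπ⟩ := hperm i
    simp only [N, map_prod, map_sub, MvPolynomial.map_X, MvPolynomial.map_map]
    have : ∀ j, (act i).comp (act j) = act (π j) := fun j => RingHom.ext (hπ j)
    simp only [this]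
    exact Equiv.prod_comp π (fun j => MvPolynomial.X none - MvPolynomial.map (act j) a)
  have hmap : MvPolynomial.map φ N = MvPolynomial.map ψ N := by
    ext m
    rw [MvPolynomial.coeff_map, MvPolynomial.coeff_map]
    exact h _ fun i => by rw [← MvPolynomial.coeff_map, hN]
  let b : MvPolynomial σ Ω := MvPolynomial.map ψ a
  let sub : σ → MvPolynomial σ Ω := fun t => t.elim b (fun x => MvPolynomial.X (some x))
  have hfix : ∀ χ : A →+* Ω, MvPolynomial.bind₁ sub (MvPolynomial.map χ a) = MvPolynomial.map χ a := by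
    intro χ
    simp [a, sub, map_sum]
  have hz := congr_arg (MvPolynomial.bind₁ sub) hmap
  simp only [N, map_prod, map_sub, MvPolynomial.map_X, MvPolynomial.map_map,
    MvPolynomial.bind₁_X_right] at hz
  have hr : (∏ i, (sub none - MvPolynomial.bind₁ sub (MvPolynomial.map (ψ.comp (act i)) a))) = 0 := by
    refine Finset.prod_eq_zero (Finset.mem_univ i₀) ?_
    rw [hfix, show ψ.comp (act i₀) = ψ from RingHom.ext fun x => congr_arg ψ (h₀ x)]
    exact sub_self b
  rw [hr, Finset.prod_eq_zero_iff] at hz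
  obtain ⟨i, -, hi⟩ := hz
  rw [hfix, sub_eq_zero] at hi
  refine ⟨i, fun x hx => ?_⟩
  have hc := congr_arg (MvPolynomial.coeff (Finsupp.single (some ⟨x, hx⟩ : σ) 1)) hi
  have coeff_a : ∀ χ : A →+* Ω, MvPolynomial.coeff (Finsupp.single (some ⟨x, hx⟩ : σ) 1)
      (MvPolynomial.map χ a) = χ x := by
    intro χ
    simp only [a, map_sum, map_mul, MvPolynomial.map_C, MvPolynomial.map_X, MvPolynomial.coeff_sum,
      MvPolynomial.coeff_C_mul, MvPolynomial.coeff_X']
    rw [Finset.sum_eq_single (⟨x, hx⟩ : s)]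
    · simp
    · intro y _ hy
      simp [Finsupp.single_eq_single_iff, hy]
    · simp
  simp only [sub, b, Option.elim] at hc
  rw [coeff_a, coeff_a] at hc
  exact hc

/-- Agreement on generators propagates. -/
theorem exists_algHom_comp_eq {R A Ω ι : Type u} [CommRing R] [CommRing A] [Algebra R A]
    [Module.Finite R A] [Field Ω] [Algebra R Ω] [Finite ι] (act : ι → A →ₐ[R] A) (i₀ : ι)
    (h₀ : ∀ a, act i₀ a = a)
    (hperm : ∀ i, ∃ π : Equiv.Perm ι, ∀ j a, act i (act j a) = act (π j) a)
    (φ ψ : A →ₐ[R] Ω) (h : ∀ a ∈ fixedAlg act, φ a = ψ a) :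
    ∃ i, ψ = φ.comp (act i) := by
  obtain ⟨s, hs⟩ := (inferInstance : Module.Finite R A).fg_top
  obtain ⟨i, hi⟩ := exists_comp_eq s (fun i => (act i).toRingHom) i₀ h₀ hperm φ.toRingHom
    ψ.toRingHom (fun a ha => h a ha)
  refine ⟨i, AlgHom.toLinearMap_injective (LinearMap.ext_on hs ?_)⟩
  intro a ha
  exact hi a ha

/-- A point extends along an injective map of finite étale algebras. -/
theorem exists_algHom_extend {R A B Ω : Type u} [CommRing R] [IsNoetherianRing R] [CommRing A]
    [Algebra R A] [Module.Finite R A] [Algebra.Etale R A] [CommRing B] [Algebra R B]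
    [Module.Finite R B] [Algebra.Etale R B] [Field Ω] [IsAlgClosed Ω] [Algebra R Ω]
    (f : A →ₐ[R] B) (hf : Injective f) (φ : A →ₐ[R] Ω) :
    ∃ ψ : B →ₐ[R] Ω, ψ.comp f = φ := by
  have hff := faithfullyFlat_of_injective f hf
  letI := f.toRingHom.toAlgebra
  haveI : IsScalarTower R A B := .of_algebraMap_eq fun r => (f.commutes r).symm
  haveI : Module.FaithfullyFlat A B := hff
  haveI : Module.Finite A B := Module.Finite.of_restrictScalars_finite R A B
  letI : Algebra A Ω := φ.toRingHom.toAlgebra
  haveI : IsScalarTower R A Ω := .of_algebraMap_eq fun r => (φ.commutes r).symm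
  haveI : Nontrivial (Ω ⊗[A] B) := Module.FaithfullyFlat.rTensor_nontrivial A B Ω
  obtain ⟨m, hm⟩ := Ideal.exists_maximal (Ω ⊗[A] B)
  haveI := hm
  haveI : Module.Finite Ω ((Ω ⊗[A] B) ⧸ m) := finite_quotient m
  letI := Ideal.Quotient.field m
  have hbij := IsAlgClosed.algebraMap_bijective_of_isIntegral (k := Ω) (K := (Ω ⊗[A] B) ⧸ m)
  let e := AlgEquiv.ofBijective (Algebra.ofId Ω ((Ω ⊗[A] B) ⧸ m)) hbij
  let ψ : B →ₐ[A] Ω :=
    (e.symm.toAlgHom.restrictScalars A).comp
      (((Ideal.Quotient.mkₐ Ω m).restrictScalars A).comp Algebra.TensorProduct.includeRight)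
  exact ⟨ψ.restrictScalars R, AlgHom.ext fun a => ψ.commutes a⟩

end GrothLib.SchFin

namespace GrothLib.FinSp

universe u

variable {X : RSpace.{u}} {Ω : Type u} [Field Ω] [IsAlgClosed Ω] (ξ : GeomPt X Ω)

/-- the algebra structure on the field -/
abbrev algΩ : Algebra (X.ring ξ.base) Ω := ξ.toField.toAlgebra

/-- evaluation at the base point -/
noncomputable def evalBase : FEt X ⥤ CommAlgCat.FiniteEtale.{u} (X.ring ξ.base) where
  obj A := ⟨CommAlgCat.of (X.ring ξ.base) (A.obj.carrier ξ.base), A.property.2 ξ.base⟩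
  map f := ObjectProperty.homMk (CommAlgCat.ofHom (f.hom.app ξ.base))

/-- points over the geometric point, functorially -/
noncomputable def ptsFunctor : (FEt X)ᵒᵖ ⥤ FintypeCat.{u} :=
  letI := algΩ ξ
  (evalBase ξ).op ⋙ CommAlgCat.FiniteEtale.fiber (X.ring ξ.base) Ω

/-- the fibre functor is the functor of points -/
noncomputable def fibIso : ξ.fibFunctor ≅ ptsFunctor ξ :=
  letI := algΩ ξ
  (NatIso.ofComponents (fun A => FintypeCat.equivEquivIso (Equiv.refl _))
      (fun _ => rfl) :
    ξ.fibFunctor ≅ (evalBase ξ).op ⋙ (CommAlgCat.FiniteEtale.baseChange.{u} (X.ring ξ.base) Ω).op ⋙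
      CommAlgCat.FiniteEtale.finiteSpec Ω) ≪≫
    Functor.isoWhiskerLeft (evalBase ξ).op
      (CommAlgCat.FiniteEtale.fiberIsoComp (X.ring ξ.base) Ω).symm

/-- the points of a cover -/
abbrev Pts (A : (FEt X)ᵒᵖ) : Type u :=
  letI := algΩ ξ
  A.unop.obj.carrier ξ.base →ₐ[X.ring ξ.base] Ω

theorem pts_obj (A : (FEt X)ᵒᵖ) : ((ptsFunctor ξ).obj A : Type u) = Pts ξ A := rfl

theorem pts_map {A B : (FEt X)ᵒᵖ} (f : A ⟶ B) (x : Pts ξ A) :
    letI := algΩ ξ
    ((ptsFunctor ξ).map f x : Pts ξ B) = x.comp (f.unop.hom.app ξ.base) := rfl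

/-- a cone with unique points is terminal -/
noncomputable def isTerminalOfUnique (Y : FintypeCat.{u}) (y : Y) (h : ∀ z : Y, z = y) :
    IsTerminal Y :=
  IsTerminal.ofUniqueHom (fun Z => FintypeCat.homMk fun _ => y)
    (fun Z m => FintypeCat.hom_ext _ _ fun z => h (m z))

theorem pts_preservesTerminal :
    PreservesLimitsOfShape (Discrete PEmpty.{1}) (ptsFunctor ξ) := by
  letI := algΩ ξ
  let T : (FEt X)ᵒᵖ := op (fetStr X)
  have hT : IsTerminal T := terminalOpOfInitial (fetStrIsInitial X)
  haveI : PreservesLimit (Functor.empty.{0} (FEt X)ᵒᵖ) (ptsFunctor ξ) := by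
    refine preservesLimit_of_preserves_limit_cone hT ?_
    refine (isLimitMapConeEmptyConeEquiv (ptsFunctor ξ) T).symm ?_
    exact isTerminalOfUnique _ (Algebra.ofId (X.ring ξ.base) Ω : Pts ξ T)
      (fun z => AlgHom.ext fun r => (z : Pts ξ T).commutes r)
  exact preservesLimitsOfShape_pempty_of_preservesTerminal _

/-- a recognition criterion for pullbacks of finite sets -/
noncomputable def isLimitPullbackCone {P Y Z W : FintypeCat.{u}} {f : Y ⟶ W} {g : Z ⟶ W}
    (a : P ⟶ Y) (b : P ⟶ Z) (w : a ≫ f = b ≫ g)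
    (h : ∀ y z, f y = g z → ∃! p, a p = y ∧ b p = z) : IsLimit (PullbackCone.mk a b w) :=
  PullbackCone.isLimitAux' _ fun s => by
    have hs : ∀ t : s.pt, f (s.fst t) = g (s.snd t) := fun t =>
      ConcreteCategory.congr_hom s.condition t
    refine ⟨FintypeCat.homMk fun t => (h _ _ (hs t)).choose, ?_, ?_, fun {m} h₁ h₂ => ?_⟩
    · exact FintypeCat.hom_ext _ _ fun t => (h _ _ (hs t)).choose_spec.1.1
    · exact FintypeCat.hom_ext _ _ fun t => (h _ _ (hs t)).choose_spec.1.2
    · exact FintypeCat.hom_ext _ _ fun t => (h _ _ (hs t)).choose_spec.2 _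
        ⟨ConcreteCategory.congr_hom h₁ t, ConcreteCategory.congr_hom h₂ t⟩

theorem pts_preservesPullbacks (hX : X.IsFinSp) :
    PreservesLimitsOfShape WalkingCospan (ptsFunctor ξ) := by
  letI := algΩ ξ
  have key : ∀ {A B C : (FEt X)ᵒᵖ} (f : A ⟶ C) (g : B ⟶ C),
      PreservesLimit (cospan f g) (ptsFunctor ξ) := by
    intro A B C f g
    let c := fetPushCocone hX f.unop g.unop
    have hcond : c.inl.op ≫ f = c.inr.op ≫ g := Quiver.Hom.unop_inj c.condition
    have hl : IsLimit (PullbackCone.mk c.inl.op c.inr.op hcond) :=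
      PullbackCone.isLimitAux' _ fun s => by
        have hs : f.unop ≫ s.fst.unop = g.unop ≫ s.snd.unop := congr_arg Quiver.Hom.unop s.condition
        let d := PushoutCocone.IsColimit.desc' (fetPushIsColimit hX f.unop g.unop) s.fst.unop
          s.snd.unop hs
        refine ⟨d.1.op, Quiver.Hom.unop_inj d.2.1, Quiver.Hom.unop_inj d.2.2, fun {m} h₁ h₂ => ?_⟩
        refine Quiver.Hom.unop_inj (PushoutCocone.IsColimit.hom_ext
          (fetPushIsColimit hX f.unop g.unop) ?_ ?_)
        · exact (congr_arg Quiver.Hom.unop h₁).trans d.2.1.symm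
        · exact (congr_arg Quiver.Hom.unop h₂).trans d.2.2.symm
    refine preservesLimit_of_preserves_limit_cone hl ((isLimitMapConePullbackConeEquiv
      (ptsFunctor ξ) hcond).symm (isLimitPullbackCone _ _ _ ?_))
    intro (y : Pts ξ A) (z : Pts ξ B) hyz
    have hyz' : y.comp (f.unop.hom.app ξ.base) = z.comp (g.unop.hom.app ξ.base) := hyz
    let fp := f.unop.hom.app ξ.base
    let gp := g.unop.hom.app ξ.base
    let L := Algebra.TensorProduct.lift y z (fun _ _ => Commute.all _ _)
    have hL : pushIdeal fp gp ≤ RingHom.ker L := by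
      rw [pushIdeal, Ideal.span_le]
      rintro _ ⟨c, rfl⟩
      rw [SetLike.mem_coe, RingHom.mem_ker, map_sub, Algebra.TensorProduct.lift_tmul,
        Algebra.TensorProduct.lift_tmul, map_one, map_one, one_mul, mul_one]
      exact sub_eq_zero.2 (AlgHom.congr_fun hyz' c).symm
    let p : Pts ξ (op (fetPush hX f.unop g.unop)) :=
      Ideal.Quotient.liftₐ (pushIdeal fp gp) L (fun a ha => hL ha)
    refine ⟨p, ⟨?_, ?_⟩, ?_⟩
    · refine (AlgHom.ext fun a => ?_ : (p.comp ((pushInl f.unop.hom g.unop.hom).app ξ.base)) = y)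
      change L (a ⊗ₜ 1) = y a
      rw [Algebra.TensorProduct.lift_tmul, map_one, mul_one]
    · refine (AlgHom.ext fun a => ?_ : (p.comp ((pushInr f.unop.hom g.unop.hom).app ξ.base)) = z)
      change L (1 ⊗ₜ a) = z a
      rw [Algebra.TensorProduct.lift_tmul, map_one, one_mul]
    · rintro (q : Pts ξ (op (fetPush hX f.unop g.unop))) ⟨h₁, h₂⟩
      have h₁' : q.comp ((pushInl f.unop.hom g.unop.hom).app ξ.base) = y := h₁
      have h₂' : q.comp ((pushInr f.unop.hom g.unop.hom).app ξ.base) = z := h₂
      refine Ideal.Quotient.algHom_ext _ (Algebra.TensorProduct.ext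
        (AlgHom.ext fun a => ?_) (AlgHom.ext fun b => ?_))
      · refine (AlgHom.congr_fun h₁' a).trans ?_
        change y a = L (a ⊗ₜ 1)
        rw [Algebra.TensorProduct.lift_tmul, map_one, mul_one]
      · refine (AlgHom.congr_fun h₂' b).trans ?_
        change z b = L (1 ⊗ₜ b)
        rw [Algebra.TensorProduct.lift_tmul, map_one, one_mul]
  constructor
  intro K
  haveI := key (K.map WalkingCospan.Hom.inl) (K.map WalkingCospan.Hom.inr)
  exact preservesLimit_of_iso_diagram _ (diagramIsoCospan K).symm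

/-- the cofan of a pointwise product -/
noncomputable def fetCofan (hX : X.IsFinSp) (A B : (FEt X)ᵒᵖ) : BinaryCofan A B :=
  BinaryCofan.mk (P := op (fetProd hX A.unop B.unop))
    (ObjectProperty.homMk (prodFst A.unop.obj B.unop.obj) : fetProd hX A.unop B.unop ⟶ A.unop).op
    (ObjectProperty.homMk (prodSnd A.unop.obj B.unop.obj) : fetProd hX A.unop B.unop ⟶ B.unop).op

/-- the cofan of a pointwise product is colimiting in the opposite category -/
noncomputable def fetCofanIsColimit (hX : X.IsFinSp) (A B : (FEt X)ᵒᵖ) :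
    IsColimit (fetCofan hX A B) :=
  BinaryCofan.IsColimit.mk _
    (fun f g => (ObjectProperty.homMk (prodLift f.unop.hom g.unop.hom) :
      _ ⟶ fetProd hX A.unop B.unop).op)
    (fun _ _ => rfl) (fun _ _ => rfl)
    (fun f g m h₁ h₂ => Quiver.Hom.unop_inj (fet_hom_ext _ _ fun p a =>
      Prod.ext (fet_congr (congr_arg Quiver.Hom.unop h₁) p a)
        (fet_congr (congr_arg Quiver.Hom.unop h₂) p a)))

theorem fetOp_hasFiniteCoproducts (hX : X.IsFinSp) : HasFiniteCoproducts (FEt X)ᵒᵖ := by
  haveI : ∀ {A B : (FEt X)ᵒᵖ}, HasColimit (pair A B) :=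
    fun {A B} => ⟨⟨⟨_, fetCofanIsColimit hX A B⟩⟩⟩
  haveI := hasBinaryCoproducts_of_hasColimit_pair (FEt X)ᵒᵖ
  haveI : HasInitial (FEt X)ᵒᵖ := (initialOpOfTerminal (fetZeroIsTerminal hX)).hasInitial
  exact hasFiniteCoproducts_of_has_binary_and_initial

/-- a recognition criterion for coproducts of finite sets -/
noncomputable def isColimitBinaryCofan {P Y Z : FintypeCat.{u}} (a : Y ⟶ P) (b : Z ⟶ P)
    (h : Bijective (Sum.elim a b)) : IsColimit (BinaryCofan.mk a b) :=
  BinaryCofan.IsColimit.mk _
    (fun f g => FintypeCat.homMk fun p => Sum.elim f g ((Equiv.ofBijective _ h).symm p))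
    (fun f g => FintypeCat.hom_ext _ _ fun y => by
      change Sum.elim f g ((Equiv.ofBijective _ h).symm (Sum.elim a b (Sum.inl y))) = _
      rw [Equiv.ofBijective_symm_apply_apply]; rfl)
    (fun f g => FintypeCat.hom_ext _ _ fun y => by
      change Sum.elim f g ((Equiv.ofBijective _ h).symm (Sum.elim a b (Sum.inr y))) = _
      rw [Equiv.ofBijective_symm_apply_apply]; rfl)
    (fun f g m h₁ h₂ => FintypeCat.hom_ext _ _ fun p => by
      obtain ⟨x, rfl⟩ := h.2 p
      change _ = Sum.elim f g ((Equiv.ofBijective _ h).symm (Sum.elim a b x))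
      rw [Equiv.ofBijective_symm_apply_apply]
      cases x with
      | inl y => exact ConcreteCategory.congr_hom h₁ y
      | inr y => exact ConcreteCategory.congr_hom h₂ y)

theorem pts_preservesFiniteCoproducts (hX : X.IsFinSp) :
    PreservesFiniteCoproducts (ptsFunctor ξ) := by
  letI := algΩ ξ
  haveI := fetOp_hasFiniteCoproducts hX
  have key : ∀ A B : (FEt X)ᵒᵖ, PreservesColimit (pair A B) (ptsFunctor ξ) := by
    intro A B
    refine preservesColimit_of_preserves_colimit_cocone (fetCofanIsColimit hX A B)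
      ((isColimitMapCoconeBinaryCofanEquiv (ptsFunctor ξ) _ _).symm (isColimitBinaryCofan _ _ ?_))
    let SA := A.unop.obj.carrier ξ.base
    let SB := B.unop.obj.carrier ξ.base
    let j : Pts ξ A ⊕ Pts ξ B → (SA × SB →ₐ[X.ring ξ.base] Ω) :=
      Sum.elim (fun y => y.comp (AlgHom.fst _ _ _)) (fun z => z.comp (AlgHom.snd _ _ _))
    suffices hj : Bijective j by exact hj
    constructor
    · rintro (y | y) (z | z) h
      · exact congr_arg Sum.inl (AlgHom.ext fun a => AlgHom.congr_fun h (a, 0))
      · exfalso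
        have := AlgHom.congr_fun h ((1, 0) : SA × SB)
        simp [j] at this
      · exfalso
        have := AlgHom.congr_fun h ((1, 0) : SA × SB)
        simp [j] at this
      · exact congr_arg Sum.inr (AlgHom.ext fun a => AlgHom.congr_fun h (0, a))
    · intro φ
      have hid : IsIdempotentElem (φ ((1, 0) : SA × SB)) := by
        change φ _ * φ _ = φ _
        rw [← map_mul]
        simp
      have hsum : φ ((1, 0) : SA × SB) + φ ((0, 1) : SA × SB) = 1 := by
        rw [← map_add]
        simp [← Prod.one_eq_mk]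
      rcases IsIdempotentElem.iff_eq_zero_or_one.1 hid with h0 | h1
      · rw [h0, zero_add] at hsum
        let z : SB →ₐ[X.ring ξ.base] Ω :=
          AlgHom.ofLinearMap (φ.toLinearMap ∘ₗ LinearMap.inr _ _ _) hsum
            (fun a b => by
              change φ ((0, a * b) : SA × SB) = φ (0, a) * φ (0, b)
              rw [← map_mul, Prod.mk_mul_mk, mul_zero])
        refine ⟨Sum.inr z, AlgHom.ext fun x => ?_⟩
        change φ ((0, x.2) : SA × SB) = φ x
        have : φ x = φ x * φ ((0, 1) : SA × SB) := by rw [hsum, mul_one]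
        rw [this, ← map_mul]
        congr 1
        ext <;> simp
      · let y : SA →ₐ[X.ring ξ.base] Ω :=
          AlgHom.ofLinearMap (φ.toLinearMap ∘ₗ LinearMap.inl _ _ _) h1
            (fun a b => by
              change φ ((a * b, 0) : SA × SB) = φ (a, 0) * φ (b, 0)
              rw [← map_mul, Prod.mk_mul_mk, mul_zero])
        refine ⟨Sum.inl y, AlgHom.ext fun x => ?_⟩
        change φ ((x.1, 0) : SA × SB) = φ x
        have : φ x = φ x * φ ((1, 0) : SA × SB) := by rw [h1, mul_one]
        rw [this, ← map_mul]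
        congr 1
        ext <;> simp
  haveI : PreservesColimit (Functor.empty.{0} (FEt X)ᵒᵖ) (ptsFunctor ξ) := by
    refine preservesColimit_of_preserves_colimit_cocone
      (initialOpOfTerminal (fetZeroIsTerminal hX)) ((isColimitMapCoconeEmptyCoconeEquiv _ _).symm ?_)
    have hempty : ∀ x : Pts ξ (op (fetZero hX)), False := fun x => by
      have h := (x : (fetZero hX).obj.carrier ξ.base →ₐ[X.ring ξ.base] Ω).toRingHom.map_one
      rw [Subsingleton.elim (α := (fetZero hX).obj.carrier ξ.base) 1 0, map_zero] at h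
      exact zero_ne_one h
    exact IsInitial.ofUniqueHom (fun Z => FintypeCat.homMk fun x => (hempty x).elim)
      (fun Z m => FintypeCat.hom_ext _ _ fun x => (hempty x).elim)
  haveI := preservesColimitsOfShape_pempty_of_preservesInitial (ptsFunctor ξ)
  haveI : PreservesColimitsOfShape (Discrete WalkingPair) (ptsFunctor ξ) :=
    ⟨fun {K} => by
      haveI := key (K.obj ⟨WalkingPair.left⟩) (K.obj ⟨WalkingPair.right⟩)
      exact preservesColimit_of_iso_diagram _ (diagramIsoPair K).symm⟩
  exact ⟨fun n => preservesShape_fin_of_preserves_binary_and_initial _ n⟩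

theorem pts_map_surjective_of_injective (hX : X.IsFinSp) {A B : FEt X} (f : A ⟶ B)
    (hf : Injective (f.hom.app ξ.base)) :
    Surjective ((ptsFunctor ξ).map f.op) := by
  letI := algΩ ξ
  intro (φ : Pts ξ (op A))
  haveI := hX.1 ξ.base
  haveI := (A.property.2 ξ.base).1; haveI := (A.property.2 ξ.base).2
  haveI := (B.property.2 ξ.base).1; haveI := (B.property.2 ξ.base).2
  obtain ⟨ψ, hψ⟩ := exists_algHom_extend (f.hom.app ξ.base) hf φ
  exact ⟨ψ, hψ⟩

theorem pts_preservesEpis (hX : X.IsFinSp) : (ptsFunctor ξ).PreservesEpimorphisms where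
  preserves {A B} f _ := by
    haveI : Mono f.unop := inferInstance
    have := pts_map_surjective_of_injective ξ hX f.unop (injective_of_mono hX f.unop ξ.base)
    exact ConcreteCategory.epi_of_surjective _ this

theorem pts_card (hX : X.IsFinSp) (A : FEt X) :
    Nat.card (Pts ξ (op A)) = Module.rankAtStalk (A.obj.carrier ξ.base)
      (⟨RingHom.ker ξ.toField, RingHom.ker_isPrime _⟩ : PrimeSpectrum (X.ring ξ.base)) := by
  letI := algΩ ξ
  haveI := hX.1 ξ.base
  haveI := (A.property.2 ξ.base).1; haveI := (A.property.2 ξ.base).2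
  let T := Ω ⊗[X.ring ξ.base] A.obj.carrier ξ.base
  have e : Pts ξ (op A) ≃ PrimeSpectrum T :=
    (FintypeCat.equivEquivIso.symm
      ((CommAlgCat.FiniteEtale.fiberIsoComp (X.ring ξ.base) Ω).app (op ((evalBase ξ).obj A))))
  rw [Nat.card_congr e]
  haveI : IsArtinianRing T := isArtinian_of_tower Ω inferInstance
  haveI := Fintype.ofFinite (PrimeSpectrum T)
  have h1 : Module.finrank Ω T = Nat.card (PrimeSpectrum T) := by
    rw [(Algebra.FormallyEtale.equivPiOfIsSepClosed Ω T).toLinearEquiv.finrank_eq,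
      Module.finrank_pi, Nat.card_eq_fintype_card]
  haveI : IsDomain Ω := inferInstance
  let z : PrimeSpectrum Ω := ⟨⊥, Ideal.isPrime_bot⟩
  have h2 : Module.rankAtStalk T z = Module.finrank Ω T := by
    rw [Module.rankAtStalk_eq_finrank_of_free]; rfl
  rw [← h1, ← h2, Module.rankAtStalk_baseChange]
  congr 1

theorem pts_reflectsIsomorphisms (hX : X.IsFinSp) (hwc : X.IsWellConnected) :
    (ptsFunctor ξ).ReflectsIsomorphisms := by
  letI := algΩ ξ
  refine ⟨fun {B' A'} g hg => ?_⟩
  haveI := hg
  suffices IsIso g.unop from isIso_of_op g.unop.op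
  let f := g.unop
  let a := toImage hX f
  let b := fromImage hX f
  have hfg : ((ptsFunctor ξ).map g) = (ptsFunctor ξ).map b.op ≫ (ptsFunctor ξ).map a.op := by
    rw [← Functor.map_comp, ← op_comp, toImage_fromImage]; rfl
  have hbij : Bijective ((ptsFunctor ξ).map g) :=
    (FintypeCat.equivEquivIso.symm (asIso ((ptsFunctor ξ).map g))).bijective
  have hb : Surjective ((ptsFunctor ξ).map b.op) :=
    pts_map_surjective_of_injective ξ hX b (fromImage_injective hX f ξ.base)
  have ha : Injective ((ptsFunctor ξ).map a.op) := by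
    intro (x : Pts ξ (op (fetImage hX f))) (y : Pts ξ (op (fetImage hX f))) hxy
    refine AlgHom.ext fun q => ?_
    obtain ⟨t, rfl⟩ := toImage_surjective hX f ξ.base q
    exact AlgHom.congr_fun hxy t
  rw [hfg] at hbij
  have hbij' : Bijective (((ptsFunctor ξ).map a.op) ∘ ((ptsFunctor ξ).map b.op)) := hbij
  have hbb : Bijective ((ptsFunctor ξ).map b.op) := ⟨hbij'.1.of_comp, hb⟩
  have hab : Bijective ((ptsFunctor ξ).map a.op) := ⟨ha, hbij'.2.of_comp⟩
  have c1 : Nat.card (Pts ξ (op B'.unop)) = Nat.card (Pts ξ (op (fetImage hX f))) :=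
    Nat.card_eq_of_bijective _ hbb
  have c2 : Nat.card (Pts ξ (op (fetImage hX f))) = Nat.card (Pts ξ (op A'.unop)) :=
    Nat.card_eq_of_bijective _ hab
  rw [pts_card ξ hX, pts_card ξ hX] at c1 c2
  have key : ∀ (C D : FEt X), Module.rankAtStalk (C.obj.carrier ξ.base)
      (⟨RingHom.ker ξ.toField, RingHom.ker_isPrime _⟩ : PrimeSpectrum (X.ring ξ.base)) =
      Module.rankAtStalk (D.obj.carrier ξ.base)
      (⟨RingHom.ker ξ.toField, RingHom.ker_isPrime _⟩ : PrimeSpectrum (X.ring ξ.base)) →
      ∀ (p : X.pt) (P : PrimeSpectrum (X.ring p)),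
        Module.rankAtStalk (C.obj.carrier p) P = Module.rankAtStalk (D.obj.carrier p) P := by
    intro C D h p P
    rw [rankAtStalk_const hX hwc C p ξ.base P _, h, rankAtStalk_const hX hwc D p ξ.base P _]
  have hr1 := key A'.unop (fetImage hX f) c2.symm
  have hr2 := key (fetImage hX f) B'.unop c1.symm
  refine fet_isIso_of_bijective f fun p => ?_
  haveI := hX.1 p
  haveI := (A'.unop.property.2 p).1; haveI := (A'.unop.property.2 p).2
  haveI := (B'.unop.property.2 p).1; haveI := (B'.unop.property.2 p).2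
  haveI := ((fetImage hX f).property.2 p).1; haveI := ((fetImage hX f).property.2 p).2
  exact (bijective_of_injective_of_rank (b.hom.app p) (fromImage_injective hX f p) (hr2 p)).comp
    (bijective_of_surjective_of_rank (a.hom.app p) (toImage_surjective hX f p) (hr1 p))

section Quotient

variable (hX : X.IsFinSp) {G : Type u} [Group G] [Finite G] (K : SingleObj G ⥤ (FEt X)ᵒᵖ)
  (hA : LocTriv (K.obj (SingleObj.star G)).unop)

/-- the endomorphisms of the underlying cover -/
def actMap (g : G) : (K.obj (SingleObj.star G)).unop ⟶ (K.obj (SingleObj.star G)).unop :=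
  (K.map (X := SingleObj.star G) (Y := SingleObj.star G) g).unop

/-- the quotient cocone in the opposite category -/
noncomputable def quoCocone : Cocone K where
  pt := op (fetFixed (actMap K) hX hA)
  ι :=
    { app := fun _ => (ObjectProperty.homMk (fixedVal fun g : G => (actMap K g).hom) :
        fetFixed (actMap K) hX hA ⟶ (K.obj (SingleObj.star G)).unop).op
      naturality := fun _ _ g => Quiver.Hom.unop_inj (InducedCategory.hom_ext
        (Alg.hom_ext _ _ fun p => AlgHom.ext fun a => a.2 g)) }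

/-- the quotient cocone is colimiting -/
noncomputable def quoCoconeIsColimit : IsColimit (quoCocone hX K hA) where
  desc s := (ObjectProperty.homMk (fixedLift _ (s.ι.app (SingleObj.star G)).unop.hom
    (fun g => congr_arg InducedCategory.Hom.hom (congr_arg Quiver.Hom.unop
      (s.w (j := SingleObj.star G) (j' := SingleObj.star G) g)))) :
        s.pt.unop ⟶ fetFixed (actMap K) hX hA).op
  fac s j := Quiver.Hom.unop_inj (InducedCategory.hom_ext rfl)
  uniq s m h := Quiver.Hom.unop_inj (fet_hom_ext _ _ fun p t => Subtype.ext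
    (fet_congr (congr_arg Quiver.Hom.unop (h (SingleObj.star G))) p t))

include hX hA in
theorem quo_hasColimit : HasColimit K := ⟨⟨⟨_, quoCoconeIsColimit hX K hA⟩⟩⟩

theorem actMap_one : actMap K (1 : G) = 𝟙 _ := by
  unfold actMap
  rw [show (1 : G) = 𝟙 (SingleObj.star G) from rfl, K.map_id]
  rfl

theorem actMap_mul (g h : G) : actMap K (g * h) = actMap K g ≫ actMap K h := by
  unfold actMap
  rw [← unop_comp, ← K.map_comp]
  rfl

include hX hA in
theorem pts_preservesQuotient : PreservesColimit K (ptsFunctor ξ) := by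
  letI := algΩ ξ
  refine preservesColimit_of_preserves_colimit_cocone (quoCoconeIsColimit hX K hA) ?_
  let A := (K.obj (SingleObj.star G)).unop
  let φ : G → A.obj.carrier ξ.base →ₐ[X.ring ξ.base] A.obj.carrier ξ.base :=
    fun g => (actMap K g).hom.app ξ.base
  let π : Pts ξ (op A) → (fixedAlg φ →ₐ[X.ring ξ.base] Ω) := fun y => y.comp (fixedAlg φ).val
  have hπ : Surjective π := by
    intro x
    haveI := hX.1 ξ.base
    haveI := (A.property.2 ξ.base).1; haveI := (A.property.2 ξ.base).2
    haveI : Module.Finite (X.ring ξ.base) (fixedAlg φ) :=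
      ((fetFixed (actMap K) hX hA).property.2 ξ.base).1
    haveI : Algebra.Etale (X.ring ξ.base) (fixedAlg φ) :=
      ((fetFixed (actMap K) hX hA).property.2 ξ.base).2
    obtain ⟨y, hy⟩ := exists_algHom_extend (fixedAlg φ).val Subtype.val_injective x
    exact ⟨y, hy⟩
  have hφ : ∀ g h a, φ g (φ h a) = φ (h * g) a := fun g h a => by
    simp only [φ]
    rw [actMap_mul]
    rfl
  have hφ1 : ∀ a, φ 1 a = a := fun a => by
    simp only [φ]
    rw [actMap_one]
    rfl
  have horb : ∀ y z, π y = π z → ∃ g : G, z = y.comp (φ g) := by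
    intro y z hyz
    haveI := (A.property.2 ξ.base).1
    exact exists_algHom_comp_eq φ 1 hφ1 (fun g => ⟨Equiv.mulRight g, fun h a => hφ g h a⟩) y z
      (fun a ha => AlgHom.congr_fun hyz ⟨a, ha⟩)
  exact {
    desc := fun s => FintypeCat.homMk fun x => s.ι.app (SingleObj.star G) (hπ x).choose
    fac := fun s _ => FintypeCat.hom_ext _ _ fun (y : Pts ξ (op A)) => by
      change s.ι.app (SingleObj.star G) (hπ (π y)).choose = s.ι.app (SingleObj.star G) y
      obtain ⟨g, hg⟩ := horb _ y (hπ (π y)).choose_spec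
      have hw := ConcreteCategory.congr_hom
        (s.w (j := SingleObj.star G) (j' := SingleObj.star G) g) ((hπ (π y)).choose)
      refine hw.symm.trans (congr_arg (s.ι.app (SingleObj.star G)) ?_)
      exact hg.symm
    uniq := fun s m h => FintypeCat.hom_ext _ _ fun (x : fixedAlg φ →ₐ[X.ring ξ.base] Ω) => by
      change m x = s.ι.app (SingleObj.star G) (hπ x).choose
      refine Eq.trans ?_ (ConcreteCategory.congr_hom (h (SingleObj.star G)) (hπ x).choose)
      exact congr_arg m (hπ x).choose_spec.symm }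

end Quotient

end GrothLib.FinSp
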