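import Groth.Agent.Lib.SchFin.Fibre
import Mathlib.CategoryTheory.Limits.Opposites
import Mathlib.CategoryTheory.Galois.Basic

/-!
# Étale covers of a well-connected finite space form a Galois category
-/

set_option autoImplicit false

open CategoryTheory Limits SchFin Opposite

namespace GrothLib.FinSp

universe u

variable {X : RSpace.{u}} {Ω : Type u} [Field Ω] [IsAlgClosed Ω] (ξ : GeomPt X Ω)

theorem fib_preserves (hX : X.IsFinSp) :
    PreservesLimitsOfShape (Discrete PEmpty.{1}) ξ.fibFunctor ∧
      PreservesLimitsOfShape WalkingCospan ξ.fibFunctor ∧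
      PreservesFiniteCoproducts ξ.fibFunctor ∧ ξ.fibFunctor.PreservesEpimorphisms := by
  haveI := pts_preservesTerminal ξ
  haveI := pts_preservesPullbacks ξ hX
  haveI := pts_preservesFiniteCoproducts ξ hX
  haveI := pts_preservesEpis ξ hX
  exact ⟨preservesLimitsOfShape_of_natIso (fibIso ξ).symm,
    preservesLimitsOfShape_of_natIso (fibIso ξ).symm,
    ⟨fun _ => preservesColimitsOfShape_of_natIso (fibIso ξ).symm⟩,
    (Functor.preservesEpimorphisms.iso_iff (fibIso ξ).symm).1 inferInstance⟩

theorem fib_reflectsIsomorphisms (hX : X.IsFinSp) (hwc : X.IsWellConnected) :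
    ξ.fibFunctor.ReflectsIsomorphisms := by
  haveI := pts_reflectsIsomorphisms ξ hX hwc
  exact reflectsIsomorphisms_of_iso (fibIso ξ).symm

/-- the Galois category structure -/
theorem preGalois (hX : X.IsFinSp) (hlt : ∀ A : FEt X, LocTriv A)
    (hepi : ∀ (A B : FEt X) (f : A ⟶ B), Epi f → ∀ p : X.pt, Function.Surjective (f.hom.app p)) :
    PreGaloisCategory (FEt X)ᵒᵖ where
  hasTerminal := (terminalOpOfInitial (fetStrIsInitial X)).hasTerminal
  hasPullbacks := by
    haveI := fet_hasPushouts hX
    infer_instance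
  hasFiniteCoproducts := fetOp_hasFiniteCoproducts hX
  hasQuotientsByFiniteGroups G _ _ := ⟨fun K => quo_hasColimit hX K (hlt _)⟩
  monoInducesIsoOnDirectSummand {Y Z} i _ := by
    have hs := hepi _ _ i.unop inferInstance
    obtain ⟨hlim⟩ := nonempty_isLimit_compl hX i.unop hs
    refine ⟨op (fetCompl hX i.unop), (toCompl hX i.unop).op, ⟨?_⟩⟩
    refine BinaryCofan.IsColimit.mk _
      (fun f g => (BinaryFan.IsLimit.lift' hlim f.unop g.unop).1.op)
      (fun f g => Quiver.Hom.unop_inj (BinaryFan.IsLimit.lift' hlim f.unop g.unop).2.1)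
      (fun f g => Quiver.Hom.unop_inj (BinaryFan.IsLimit.lift' hlim f.unop g.unop).2.2)
      (fun f g m h₁ h₂ => Quiver.Hom.unop_inj (BinaryFan.IsLimit.hom_ext hlim ?_ ?_))
    · exact (congr_arg Quiver.Hom.unop h₁).trans
        (BinaryFan.IsLimit.lift' hlim f.unop g.unop).2.1.symm
    · exact (congr_arg Quiver.Hom.unop h₂).trans
        (BinaryFan.IsLimit.lift' hlim f.unop g.unop).2.2.symm

theorem exists_preGalois_fiberFunctor (hX : X.IsFinSp) (hwc : X.IsWellConnected)
    (hlt : ∀ A : FEt X, LocTriv A)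
    (hepi : ∀ (A B : FEt X) (f : A ⟶ B), Epi f → ∀ p : X.pt, Function.Surjective (f.hom.app p)) :
    ∃ h : PreGaloisCategory (FEt X)ᵒᵖ,
      @PreGaloisCategory.FiberFunctor (FEt X)ᵒᵖ _ h ξ.fibFunctor := by
  haveI hG := preGalois hX hlt hepi
  refine ⟨hG, ?_⟩
  obtain ⟨h1, h2, h3, h4⟩ := fib_preserves ξ hX
  exact
    { preservesTerminalObjects := h1
      preservesPullbacks := h2
      preservesFiniteCoproducts := h3
      preservesEpis := h4
      preservesQuotientsByFiniteGroups := fun G _ _ => ⟨fun {K} => by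
        haveI := pts_preservesQuotient ξ hX K (hlt _)
        exact preservesColimit_of_natIso K (fibIso ξ).symm⟩
      reflectsIsos := fib_reflectsIsomorphisms ξ hX hwc }

end GrothLib.FinSp
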