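import Groth.Agent.Lib.SchFin.Category
import Mathlib.RingTheory.Spectrum.Prime.FreeLocus
import Mathlib.RingTheory.LocalRing.Module
import Mathlib.Topology.LocallyConstant.Basic

/-!
# Ranks of étale covers; connectedness
-/

set_option autoImplicit false

open TensorProduct CategoryTheory Function SchFin GrothLib.SchFin

namespace GrothLib.SchFin

universe u

variable {R A B : Type u} [CommRing R] [CommRing A] [Algebra R A] [CommRing B] [Algebra R B]

/-- An injective map of finite étale algebras of equal ranks is bijective. -/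
theorem bijective_of_injective_of_rank [IsNoetherianRing R] [Module.Finite R A]
    [Algebra.Etale R A] [Module.Finite R B] [Algebra.Etale R B] (f : A →ₐ[R] B) (hf : Injective f)
    (hr : ∀ P : PrimeSpectrum R, Module.rankAtStalk A P = Module.rankAtStalk B P) :
    Bijective f := by
  refine ⟨hf, ?_⟩
  let M := B ⧸ LinearMap.range f.toLinearMap
  suffices Subsingleton M by
    exact LinearMap.range_eq_top.1 (Submodule.Quotient.subsingleton_iff.1 this)
  rw [← Module.support_eq_empty_iff (R := R), Set.eq_empty_iff_forall_notMem]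
  intro P hP
  rw [Module.mem_support_iff_nontrivial_residueField_tensorProduct] at hP
  let k := P.asIdeal.ResidueField
  have hinj : Injective (LinearMap.baseChange k f.toLinearMap) := by
    have := lTensor_injective f hf k
    exact this
  have hsurj : Surjective (LinearMap.baseChange k f.toLinearMap) := by
    refine (LinearMap.injective_iff_surjective_of_finrank_eq_finrank ?_).1 hinj
    have h1 : Module.rankAtStalk A P = Module.finrank k (k ⊗[R] A) := Module.rankAtStalk_eq P
    have h2 : Module.rankAtStalk B P = Module.finrank k (k ⊗[R] B) := Module.rankAtStalk_eq P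
    rw [← h1, ← h2, hr]
  have hq := LinearMap.lTensor_surjective k
    (Submodule.mkQ_surjective (LinearMap.range f.toLinearMap))
  refine not_subsingleton (k ⊗[R] M) ⟨fun x y => ?_⟩
  obtain ⟨x', rfl⟩ := hq x
  obtain ⟨y', rfl⟩ := hq y
  obtain ⟨x'', rfl⟩ := hsurj x'
  obtain ⟨y'', rfl⟩ := hsurj y'
  have h0 : ∀ z, LinearMap.lTensor k (LinearMap.range f.toLinearMap).mkQ
      (LinearMap.baseChange k f.toLinearMap z) = 0 := by
    intro z
    induction z using TensorProduct.induction_on with
    | zero => simp
    | tmul c a =>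
      rw [LinearMap.baseChange_tmul, LinearMap.lTensor_tmul,
        show (LinearMap.range f.toLinearMap).mkQ (f.toLinearMap a) = 0 from
          (Submodule.Quotient.mk_eq_zero _).2 ⟨a, rfl⟩, TensorProduct.tmul_zero]
    | add u v hu hv => rw [map_add, map_add, hu, hv, add_zero]
  rw [h0, h0]

/-- A surjective map of finite étale algebras of equal ranks is bijective. -/
theorem bijective_of_surjective_of_rank [IsNoetherianRing R] [Module.Finite R A]
    [Algebra.Etale R A] [Module.Finite R B] [Algebra.Etale R B] (f : A →ₐ[R] B)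
    (hf : Surjective f)
    (hr : ∀ P : PrimeSpectrum R, Module.rankAtStalk A P = Module.rankAtStalk B P) :
    Bijective f := by
  refine ⟨?_, hf⟩
  obtain ⟨e, he, hK⟩ := exists_idempotent_ker f
  let π : A →ₐ[R] A ⧸ Ideal.span {1 - e} := Ideal.Quotient.mkₐ R _
  have hid : IsIdempotentElem (Ideal.span {1 - e}) := by
    rw [IsIdempotentElem, Ideal.span_singleton_mul_span_singleton, he.one_sub.eq]
  haveI : Module.Finite R (A ⧸ Ideal.span {1 - e}) := finite_quotient _
  haveI : Algebra.Etale R (A ⧸ Ideal.span {1 - e}) := etale_quotient _ hid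
  have hb : Bijective (fun a => (f a, π a)) := by
    constructor
    · intro a b h
      obtain ⟨h1, h2⟩ := Prod.ext_iff.1 h
      obtain ⟨c, hc⟩ := Ideal.mem_span_singleton'.1
        (show a - b ∈ Ideal.span {e} by
          rw [← hK, RingHom.mem_ker, map_sub]; exact sub_eq_zero.2 h1)
      obtain ⟨d, hd⟩ := Ideal.mem_span_singleton'.1
        ((Ideal.Quotient.mk_eq_mk_iff_sub_mem a b).1 h2)
      have e1 : (a - b) * e = a - b := by rw [← hc, mul_assoc, he.eq]
      have e2 : (a - b) * e = 0 := by
        rw [← hd, mul_assoc, sub_mul, one_mul, he.eq, sub_self, mul_zero]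
      exact sub_eq_zero.1 (e1.symm.trans e2)
    · rintro ⟨b, d⟩
      obtain ⟨a, rfl⟩ := hf b
      obtain ⟨d, rfl⟩ := Ideal.Quotient.mk_surjective d
      refine ⟨a * (1 - e) + d * e, Prod.ext ?_ ?_⟩
      · have : f e = 0 := by
          rw [← RingHom.mem_ker, hK]; exact Ideal.subset_span rfl
        simp [this]
      · refine (Ideal.Quotient.mk_eq_mk_iff_sub_mem _ _).2 ?_
        exact Ideal.mem_span_singleton'.2 ⟨a - d, by ring⟩
  let E : A ≃ₗ[R] B × (A ⧸ Ideal.span {1 - e}) :=
    LinearEquiv.ofBijective (f.toLinearMap.prod π.toLinearMap) hb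
  haveI : Subsingleton (A ⧸ Ideal.span {1 - e}) := by
    rw [← Module.rankAtStalk_eq_zero_iff_subsingleton (R := R)]
    funext P
    have h := congr_fun (Module.rankAtStalk_eq_of_equiv E) P
    rw [Module.rankAtStalk_prod, Pi.add_apply, hr P] at h
    simp only [Pi.zero_apply]
    omega
  intro a b h
  exact hb.1 (Prod.ext h (Subsingleton.elim _ _))

theorem idempotent_eq_zero_or_one {R : Type u} [CommRing R] [PreconnectedSpace (PrimeSpectrum R)]
    {e : R} (he : IsIdempotentElem e) : e = 0 ∨ e = 1 := by
  have hc : IsClopen (PrimeSpectrum.basicOpen e : Set (PrimeSpectrum R)) := by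
    refine ⟨?_, (PrimeSpectrum.basicOpen e).isOpen⟩
    rw [← isOpen_compl_iff]
    convert (PrimeSpectrum.basicOpen (1 - e)).isOpen using 1
    ext P
    simp only [Set.mem_compl_iff, SetLike.mem_coe, PrimeSpectrum.mem_basicOpen, not_not]
    constructor
    · intro h h'
      exact P.2.ne_top ((Ideal.eq_top_iff_one _).2 (by simpa using P.asIdeal.add_mem h h'))
    · intro h
      rcases P.2.mem_or_mem (show e * (1 - e) ∈ P.asIdeal by
        rw [he.mul_one_sub_self]; exact zero_mem _) with h1 | h1
      · exact h1
      · exact absurd h1 h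
  rcases isClopen_iff.1 hc with h | h
  · left
    have hn : IsNilpotent e := (PrimeSpectrum.basicOpen_eq_bot_iff e).1 (SetLike.coe_injective h)
    exact IsIdempotentElem.eq_zero_of_isNilpotent he hn
  · right
    have hu : IsUnit e := by
      by_contra hu
      obtain ⟨m, hm, hem⟩ := exists_max_ideal_of_mem_nonunits hu
      have : (⟨m, hm.isPrime⟩ : PrimeSpectrum R) ∈ PrimeSpectrum.basicOpen e := by
        rw [← SetLike.mem_coe, h]; trivial
      exact this hem
    exact hu.mul_left_cancel (by rw [he.eq, mul_one])

end GrothLib.SchFin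

namespace GrothLib.FinSp

universe u

variable {X : RSpace.{u}}

theorem isTopConnected_of_isWellConnected (hwc : X.IsWellConnected) : X.IsTopConnected := by
  classical
  obtain ⟨hc, hp⟩ := hwc
  haveI : ConnectedSpace (PrimeSpectrum (X.sectRing Set.univ)) := hc
  have hne : Nonempty X.pt := by
    by_contra h
    haveI : IsEmpty X.pt := not_nonempty_iff.1 h
    haveI : Subsingleton (X.sectRing Set.univ) :=
      ⟨fun a b => Subtype.ext (funext fun q => (IsEmpty.false q.1).elim)⟩
    exact not_isEmpty_of_nonempty (PrimeSpectrum (X.sectRing Set.univ)) inferInstance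
  refine ⟨hne, fun x y => ?_⟩
  let r : X.pt → X.pt → Prop := fun a b => a ≤ b
  let s : (q : (Set.univ : Set X.pt)) → X.ring q.1 := fun q => if Relation.EqvGen r x q.1 then 1 else 0
  have hs : s ∈ X.sectRing Set.univ := fun q q' h => by
    have : Relation.EqvGen r x q.1 ↔ Relation.EqvGen r x q'.1 :=
      ⟨fun e => e.trans _ _ _ (Relation.EqvGen.rel _ _ h),
        fun e => e.trans _ _ _ ((Relation.EqvGen.rel _ _ h).symm)⟩
    by_cases h1 : Relation.EqvGen r x q.1
    · simp [s, h1, this.1 h1]
    · simp [s, h1, mt this.2 h1]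
  have hid : IsIdempotentElem (⟨s, hs⟩ : X.sectRing Set.univ) :=
    Subtype.ext (funext fun q => by
      change s q * s q = s q
      by_cases h1 : Relation.EqvGen r x q.1 <;> simp [s, h1])
  have nz : ∀ p, Nontrivial (X.ring p) := fun p => by
    haveI := hp p
    exact PrimeSpectrum.nonempty_iff_nontrivial.1 inferInstance
  rcases idempotent_eq_zero_or_one hid with h | h
  · have h1 : s ⟨x, trivial⟩ = 0 :=
      congr_fun (congr_arg Subtype.val h) (⟨x, trivial⟩ : (Set.univ : Set X.pt))
    haveI := nz x
    simp only [s, if_pos (Relation.EqvGen.refl x)] at h1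
    exact absurd h1 one_ne_zero
  · by_contra hxy
    have h1 : s ⟨y, trivial⟩ = 1 :=
      congr_fun (congr_arg Subtype.val h) (⟨y, trivial⟩ : (Set.univ : Set X.pt))
    haveI := nz y
    have hxy' : ¬ Relation.EqvGen r x y := hxy
    simp only [s, if_neg hxy'] at h1
    exact absurd h1 zero_ne_one

theorem rankAtStalk_const (hX : X.IsFinSp) (hwc : X.IsWellConnected) (A : FEt X)
    (p q : X.pt) (P : PrimeSpectrum (X.ring p)) (Q : PrimeSpectrum (X.ring q)) :
    Module.rankAtStalk (A.obj.carrier p) P = Module.rankAtStalk (A.obj.carrier q) Q := by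
  have hloc : ∀ p (P P' : PrimeSpectrum (X.ring p)),
      Module.rankAtStalk (A.obj.carrier p) P = Module.rankAtStalk (A.obj.carrier p) P' := by
    intro p P P'
    haveI := hX.1 p
    haveI := (A.property.2 p).1; haveI := (A.property.2 p).2
    haveI := hwc.2 p
    haveI : Module.FinitePresentation (X.ring p) (A.obj.carrier p) :=
      Module.finitePresentation_of_finite _ _
    exact IsLocallyConstant.apply_eq_of_preconnectedSpace Module.isLocallyConstant_rankAtStalk P P'
  have key : ∀ a b : X.pt, Relation.EqvGen (fun a b : X.pt => a ≤ b) a b →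
      ∀ (P : PrimeSpectrum (X.ring a)) (P' : PrimeSpectrum (X.ring b)),
        Module.rankAtStalk (A.obj.carrier a) P = Module.rankAtStalk (A.obj.carrier b) P' := by
    intro a b h
    induction h with
    | rel a b h =>
      intro P P'
      letI := (X.res h).toAlgebra
      letI := compAlg A.obj h
      haveI := compAlg_tower A.obj h
      haveI := (A.property.2 a).1; haveI := (A.property.2 a).2
      have hb : IsBaseChange (X.ring b) (resHom A.obj h).toLinearMap :=
        (isBaseChange_iff (X.ring b) (resHom A.obj h)).2 ((isQcoh_iff A.obj).1 A.property.1 a b h)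
      rw [Module.rankAtStalk_isBaseChange hb P']
      exact hloc a _ _
    | refl a => exact hloc a
    | symm a b _ ih => exact fun P P' => (ih P' P).symm
    | trans a b c _ _ ih ih' =>
      intro P P'
      haveI := hwc.2 b
      obtain ⟨Q⟩ : Nonempty (PrimeSpectrum (X.ring b)) := inferInstance
      exact (ih P Q).trans (ih' Q P')
  exact key p q ((isTopConnected_of_isWellConnected hwc).2 p q) P Q

theorem fet_isIso_of_bijective {A B : FEt X} (f : A ⟶ B)
    (hf : ∀ p, Bijective (f.hom.app p)) : IsIso f := by
  let g : B ⟶ A := ObjectProperty.homMk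
    ⟨fun p => (AlgEquiv.ofBijective (f.hom.app p) (hf p)).symm.toAlgHom, fun {p q} h b => by
      apply (hf q).1
      change f.hom.app q _ =
        (AlgEquiv.ofBijective (f.hom.app q) (hf q))
          ((AlgEquiv.ofBijective (f.hom.app q) (hf q)).symm _)
      rw [AlgEquiv.apply_symm_apply, ← f.hom.compat]
      exact congr_arg (B.obj.res h)
        (AlgEquiv.apply_symm_apply (AlgEquiv.ofBijective (f.hom.app p) (hf p)) b)⟩
  exact ⟨g, fet_hom_ext _ _ fun p a => AlgEquiv.symm_apply_apply (AlgEquiv.ofBijective _ (hf p)) a,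
    fet_hom_ext _ _ fun p b => AlgEquiv.apply_symm_apply (AlgEquiv.ofBijective _ (hf p)) b⟩

theorem isIso_of_injective_of_rank (hX : X.IsFinSp) {A B : FEt X} (f : A ⟶ B)
    (hf : ∀ p, Injective (f.hom.app p))
    (hr : ∀ (p : X.pt) (P : PrimeSpectrum (X.ring p)),
      Module.rankAtStalk (A.obj.carrier p) P = Module.rankAtStalk (B.obj.carrier p) P) :
    IsIso f :=
  fet_isIso_of_bijective f fun p => by
    haveI := hX.1 p
    haveI := (A.property.2 p).1; haveI := (A.property.2 p).2
    haveI := (B.property.2 p).1; haveI := (B.property.2 p).2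
    exact bijective_of_injective_of_rank (f.hom.app p) (hf p) (hr p)

end GrothLib.FinSp
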