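import Groth.Agent.Lib.SchFin.Schematic
import Groth.Agent.Lib.SchFin.Rank
import Mathlib.RingTheory.Spectrum.Prime.RingHom
import Mathlib.RingTheory.Flat.FaithfullyFlat.Algebra

/-!
# Pairs, schematic points and geometric points of a schematic finite space
-/

set_option autoImplicit false

open TensorProduct Function SchFin GrothLib.SchFin

namespace GrothLib.FinSp

universe u

variable {X : RSpace.{u}}

/-- product rings over common upper bounds are faithfully flat over sections -/
def HasFFSections (X : RSpace.{u}) : Prop :=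
  ∀ s a b : X.pt, s ≤ a → s ≤ b → (X.up a ∩ X.up b).Nonempty →
    Module.FaithfullyFlat (X.sectRing (X.up a ∩ X.up b)) ((q : ↥(X.up a ∩ X.up b)) → X.ring q.1)

theorem pairRel_of_common (hX : X.IsSchematic) (hff : HasFFSections X) {s x y : X.pt}
    (hx : s ≤ x) (hy : s ≤ y) (P : PrimeSpectrum (X.ring x)) (Q : PrimeSpectrum (X.ring y))
    (hPQ : PrimeSpectrum.comap (X.res hx) P = PrimeSpectrum.comap (X.res hy) Q) :
    X.PairRel ⟨x, P⟩ ⟨y, Q⟩ := by
  let φ : X.ring s →+* Q.asIdeal.ResidueField :=
    (algebraMap (X.ring y) Q.asIdeal.ResidueField).comp (X.res hy)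
  have hker : P.asIdeal.comap (X.res hx) = RingHom.ker φ := by
    rw [← RingHom.comap_ker, Ideal.ker_algebraMap_residueField]
    exact congr_arg PrimeSpectrum.asIdeal hPQ
  obtain ⟨L, _, g₁, g₂, hg, hk⟩ := exists_field_amalgam (X.res hx) φ P.asIdeal hker
  letI := (X.res hx).toAlgebra; letI := (X.res hy).toAlgebra
  letI : Algebra (X.ring s) L := (g₁.comp (X.res hx)).toAlgebra
  let U := X.up x ∩ X.up y
  let e := RingEquiv.ofBijective (mulRes hx hy) (mulRes_bijective hX hx hy)
  let m : X.ring x ⊗[X.ring s] X.ring y →ₐ[X.ring s] L :=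
    Algebra.TensorProduct.lift { g₁ with commutes' := fun _ => rfl }
      { g₂.comp (algebraMap (X.ring y) Q.asIdeal.ResidueField) with
        commutes' := fun a => (RingHom.congr_fun hg a).symm }
      (fun _ _ => Commute.all _ _)
  let w : X.sectRing U →+* L := m.toRingHom.comp e.symm.toRingHom
  have hwx : w.comp (X.resSect x U Set.inter_subset_left) = g₁ := by
    ext a
    have he : e (a ⊗ₜ 1) = X.resSect x U Set.inter_subset_left a := by
      refine Subtype.ext (funext fun q => ?_)
      refine (mulRes_tmul hx hy a 1 q).trans ?_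
      rw [map_one, mul_one]; rfl
    change m (e.symm _) = _
    rw [← he, RingEquiv.symm_apply_apply]
    simp [m]
  have hwy : w.comp (X.resSect y U Set.inter_subset_right) =
      g₂.comp (algebraMap (X.ring y) Q.asIdeal.ResidueField) := by
    ext b
    have he : e (1 ⊗ₜ b) = X.resSect y U Set.inter_subset_right b := by
      refine Subtype.ext (funext fun q => ?_)
      refine (mulRes_tmul hx hy 1 b q).trans ?_
      rw [map_one, one_mul]; rfl
    change m (e.symm _) = _
    rw [← he, RingEquiv.symm_apply_apply]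
    simp [m]
  have hU : U.Nonempty := by
    rw [Set.nonempty_iff_ne_empty]
    intro h
    have h1 : (1 : X.sectRing U) = 0 :=
      Subtype.ext (funext fun q => absurd q.2 (by simp [h]))
    exact one_ne_zero (α := L) (by rw [← map_one w, h1, map_zero])
  haveI := hff s x y hx hy hU
  obtain ⟨p', hp'⟩ := PrimeSpectrum.comap_surjective_of_faithfullyFlat
    (A := X.sectRing U) (B := (q : ↥U) → X.ring q.1) ⟨RingHom.ker w, RingHom.ker_isPrime w⟩
  obtain ⟨z, r, rfl⟩ := PrimeSpectrum.exists_comap_evalRingHom_eq p'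
  have hr : r.asIdeal.comap (X.evalRing U z) = RingHom.ker w :=
    congr_arg PrimeSpectrum.asIdeal hp'
  refine ⟨z.1, z.2.1, z.2.2, r, PrimeSpectrum.ext ?_, PrimeSpectrum.ext ?_⟩
  · have : X.res z.2.1 = (X.evalRing U z).comp (X.resSect x U Set.inter_subset_left) := rfl
    change r.asIdeal.comap (X.res z.2.1) = P.asIdeal
    rw [this, ← Ideal.comap_comap, hr, RingHom.comap_ker, hwx, hk]
  · have : X.res z.2.2 = (X.evalRing U z).comp (X.resSect y U Set.inter_subset_right) := rfl
    change r.asIdeal.comap (X.res z.2.2) = Q.asIdeal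
    rw [this, ← Ideal.comap_comap, hr, RingHom.comap_ker, hwy, ← RingHom.comap_ker,
      (RingHom.injective_iff_ker_eq_bot g₂).1 g₂.injective, ← RingHom.ker_eq_comap_bot,
      Ideal.ker_algebraMap_residueField]

theorem comap_res_res {p q s : X.pt} (h : p ≤ q) (h' : q ≤ s) (r : PrimeSpectrum (X.ring s)) :
    PrimeSpectrum.comap (X.res h) (PrimeSpectrum.comap (X.res h') r) =
      PrimeSpectrum.comap (X.res (h.trans h')) r := by
  rw [← PrimeSpectrum.comap_comp_apply]
  congr 1
  exact RingHom.ext fun a => X.res_comp h h' a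

theorem comap_res_self (p : X.pt) (r : PrimeSpectrum (X.ring p)) :
    PrimeSpectrum.comap (X.res (le_refl p)) r = r := by
  refine PrimeSpectrum.ext ?_
  rw [PrimeSpectrum.comap_asIdeal, res_refl]
  rfl

theorem pairRel_equivalence (hX : X.IsSchematic) (hff : HasFFSections X) :
    Equivalence X.PairRel where
  refl a := ⟨a.1, le_rfl, le_rfl, a.2, comap_res_self _ _, comap_res_self _ _⟩
  symm := fun ⟨z, hx, hy, r, h1, h2⟩ => ⟨z, hy, hx, r, h2, h1⟩
  trans := fun {a b c} ⟨z₁, ha, hb, r₁, h1, h2⟩ ⟨z₂, hb', hc, r₂, h3, h4⟩ => by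
    obtain ⟨w, hw1, hw2, r, e1, e2⟩ :=
      pairRel_of_common hX hff hb hb' r₁ r₂ (h2.trans h3.symm)
    refine ⟨w, ha.trans hw1, hc.trans hw2, r, ?_, ?_⟩
    · rw [← comap_res_res ha hw1, e1, h1]
    · rw [← comap_res_res hc hw2, e2, h4]

theorem existsUnique_maximal (hX : X.IsSchematic) (hff : HasFFSections X) (c : X.SchPt) :
    ∃! a : X.Pair, Quot.mk X.PairRel a = c ∧
      ∀ b : X.Pair, Quot.mk X.PairRel b = c → b.1 ≤ a.1 := by
  have heq := pairRel_equivalence hX hff
  obtain ⟨a₀, rfl⟩ := Quot.exists_rep c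
  let S : Set X.pt := {z | ∃ a : X.Pair, Quot.mk X.PairRel a = Quot.mk X.PairRel a₀ ∧ a.1 = z}
  obtain ⟨z, hzmax⟩ := (Set.toFinite S).exists_maximal ⟨a₀.1, a₀, rfl, rfl⟩
  obtain ⟨a, ha, hz⟩ := hzmax.1
  have hmax : ∀ b : X.Pair, Quot.mk X.PairRel b = Quot.mk X.PairRel a₀ → b.1 ≤ a.1 := by
    intro b hb
    obtain ⟨w, hwa, hwb, r, h1, h2⟩ := (heq.quot_mk_eq_iff a b).1 (ha.trans hb.symm)
    have hw : w ∈ S := by
      refine ⟨⟨w, r⟩, Eq.trans ?_ ha, rfl⟩
      exact Quot.sound ⟨w, le_rfl, hwa, r, comap_res_self _ _, h1⟩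
    exact hwb.trans (hz ▸ hzmax.2 hw (hz ▸ hwa))
  refine ⟨a, ⟨ha, hmax⟩, ?_⟩
  rintro ⟨x', P'⟩ ⟨hb, hbmax⟩
  obtain ⟨x, P⟩ := a
  obtain ⟨w, hwa, hwb, r, h1, h2⟩ := (heq.quot_mk_eq_iff _ _).1 (ha.trans hb.symm)
  obtain rfl : x' = x := le_antisymm (hmax ⟨x', P'⟩ hb) (hbmax ⟨x, P⟩ ha)
  have : P' = P := h2.symm.trans h1
  rw [this]

section WellConnected

theorem isWellConnected_iff : X.IsWellConnected ↔ (X.IsTopConnected ∧ X.IsPwConnected) := by
  refine ⟨fun h => ⟨isTopConnected_of_isWellConnected h, h.2⟩, fun ⟨⟨⟨x₀⟩, hT⟩, hp⟩ => ⟨?_, hp⟩⟩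
  have nz : ∀ p, Nontrivial (X.ring p) := fun p => by
    haveI := hp p
    exact PrimeSpectrum.nonempty_iff_nontrivial.1 inferInstance
  haveI : Nontrivial (X.sectRing Set.univ) := by
    haveI := nz x₀
    exact (X.evalRing Set.univ ⟨x₀, trivial⟩).domain_nontrivial
  have hidem : ∀ e : X.sectRing Set.univ, IsIdempotentElem e → e = 0 ∨ e = 1 := by
    intro e he
    have h01 : ∀ q : ↥(Set.univ : Set X.pt), e.1 q = 0 ∨ e.1 q = 1 := fun q => by
      haveI := hp q.1
      exact idempotent_eq_zero_or_one (congr_fun (congr_arg Subtype.val he) q :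
        IsIdempotentElem (e.1 q))
    have hc : ∀ p q : X.pt, Relation.EqvGen (fun a b : X.pt => a ≤ b) p q →
        (e.1 ⟨p, trivial⟩ = 1 ↔ e.1 ⟨q, trivial⟩ = 1) := by
      intro p q h
      induction h with
      | rel p q h =>
        have hr : X.res h (e.1 ⟨p, trivial⟩) = e.1 ⟨q, trivial⟩ :=
          e.2 ⟨p, trivial⟩ ⟨q, trivial⟩ h
        haveI := nz q
        constructor
        · intro h1; rw [← hr, h1, map_one]
        · intro h1
          rcases h01 ⟨p, trivial⟩ with h0 | h0
          · rw [h0, map_zero, h1] at hr; exact absurd hr zero_ne_one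
          · exact h0
      | refl p => exact Iff.rfl
      | symm p q _ ih => exact ih.symm
      | trans p q r _ _ i1 i2 => exact i1.trans i2
    rcases h01 ⟨x₀, trivial⟩ with h0 | h1
    · left
      refine Subtype.ext (funext fun q => (h01 q).resolve_right fun h => ?_)
      haveI := nz x₀
      have := (hc q.1 x₀ (hT _ _)).1 h
      rw [h0] at this
      exact zero_ne_one this
    · right
      exact Subtype.ext (funext fun q => (hc x₀ q.1 (hT _ _)).1 h1)
  haveI : PreconnectedSpace (PrimeSpectrum (X.sectRing Set.univ)) := by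
    rw [preconnectedSpace_iff_clopen]
    intro s hs
    obtain ⟨e, f, h1, h2, rfl⟩ := PrimeSpectrum.isClopen_iff_mul_add.1 hs
    have hef : IsIdempotentElem e := by
      change e * e = e
      calc e * e = e * e + e * f := by rw [h1, add_zero]
        _ = e := by rw [← mul_add, h2, mul_one]
    rcases hidem e hef with rfl | rfl
    · left; simp
    · right; simp
  exact (inferInstance : Nonempty (PrimeSpectrum (X.sectRing Set.univ))).elim
    fun P => { toNonempty := ⟨P⟩ }

theorem exists_trivial_cover_map (hW : X.IsWellConnected) {F E : Type} [Finite F] [Finite E]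
    (f : ∀ p : X.pt, (F → X.ring p) →ₐ[X.ring p] (E → X.ring p))
    (hf : ∀ (p q : X.pt) (h : p ≤ q) (g : F → X.ring p) (e : E),
      X.res h (f p g e) = f q (fun i => X.res h (g i)) e) :
    ∃ φ : E → F, ∀ (p : X.pt) (g : F → X.ring p) (e : E), f p g e = g (φ e) := by
  classical
  haveI := Fintype.ofFinite F
  have nz : ∀ p, Nontrivial (X.ring p) := fun p => by
    haveI := hW.2 p
    exact PrimeSpectrum.nonempty_iff_nontrivial.1 inferInstance
  obtain ⟨⟨x₀⟩, hT⟩ := isTopConnected_of_isWellConnected hW
  have h01 : ∀ p i e, f p (Pi.single i 1) e = 0 ∨ f p (Pi.single i 1) e = 1 := fun p i e => by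
    haveI := hW.2 p
    refine idempotent_eq_zero_or_one ?_
    change _ * _ = _
    rw [← Pi.mul_apply, ← map_mul, ← Pi.single_mul, one_mul]
  have hsum : ∀ p e, ∑ i, f p (Pi.single i 1) e = 1 := fun p e => by
    rw [← Finset.sum_apply, ← map_sum]
    have : ∑ i, (Pi.single i (1 : X.ring p) : F → X.ring p) = 1 :=
      Finset.univ_sum_single (1 : F → X.ring p)
    rw [this, map_one]; rfl
  have hex : ∀ p e, ∃ i, f p (Pi.single i 1) e = 1 := by
    intro p e
    by_contra hcon
    push Not at hcon
    haveI := nz p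
    have := hsum p e
    rw [Finset.sum_eq_zero fun i _ => (h01 p i e).resolve_right (hcon i)] at this
    exact zero_ne_one this
  choose σ hσ using hex
  have hg : ∀ p g e, f p g e = g (σ p e) := fun p g e => by
    have hmul : g * Pi.single (σ p e) 1 = g (σ p e) • Pi.single (σ p e) (1 : X.ring p) := by
      funext j
      rcases eq_or_ne j (σ p e) with rfl | hj
      · simp
      · simp [Pi.single_eq_of_ne hj]
    have := congr_fun (congr_arg (f p) hmul) e
    rw [map_mul, map_smul, Pi.mul_apply, Pi.smul_apply, hσ, mul_one, smul_eq_mul, mul_one] at this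
    exact this
  have hc : ∀ p q, Relation.EqvGen (fun a b : X.pt => a ≤ b) p q → σ p = σ q := by
    intro p q h
    induction h with
    | rel p q h =>
      funext e
      by_contra hne
      haveI := nz q
      have h1 := hf p q h (Pi.single (σ p e) 1) e
      rw [hσ, map_one, hg] at h1
      simp [Pi.single_eq_of_ne (Ne.symm hne)] at h1
    | refl p => rfl
    | symm p q _ ih => exact ih.symm
    | trans p q r _ _ i1 i2 => exact i1.trans i2
  exact ⟨σ x₀, fun p g e => by rw [hg, hc p x₀ (hT _ _)]⟩

end WellConnected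

section Geom

variable {Ω : Type u} [Field Ω] [IsAlgClosed Ω]

instance subsingleton_point : Subsingleton (RSpace.point Ω).pt := inferInstanceAs (Subsingleton PUnit)

theorem isEmpty_chain {U : Set (RSpace.point Ω).pt} (n : ℕ) :
    IsEmpty (Chain (X := RSpace.point Ω) U (n + 1)) :=
  ⟨fun σ => (σ.strictMono (show (0 : Fin (n + 2)) < Fin.last (n + 1) from Fin.last_pos)).ne
    (Subsingleton.elim _ _)⟩

theorem subsingleton_H_succ {U : Set (RSpace.point Ω).pt} {R : Type u} [CommRing R]
    (φ : Coef (RSpace.point Ω) U R) (M : OMod (RSpace.point Ω)) (n : ℕ) :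
    Subsingleton (H φ M (n + 1)) := by
  haveI := isEmpty_chain (Ω := Ω) (U := U) n
  refine ⟨fun a b => ?_⟩
  obtain ⟨a, rfl⟩ := Submodule.mkQ_surjective _ a
  obtain ⟨b, rfl⟩ := Submodule.mkQ_surjective _ b
  exact congr_arg _ (Subtype.ext (funext fun σ => isEmptyElim σ))

theorem isBCAlong_of_subsingleton {R S M N : Type u} [CommRing R] [CommRing S] [AddCommGroup M]
    [AddCommGroup N] [Module R M] [Module S N] {g : R →+* S} (f : M →ₛₗ[g] N) [Subsingleton N]
    (h : letI := g.toAlgebra; Subsingleton (S ⊗[R] M)) : IsBCAlong g f := by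
  letI := g.toAlgebra
  haveI := h
  refine (isBCAlong_iff_bijective f 0 (fun _ _ => Subsingleton.elim _ _)).2
    ⟨fun a b _ => Subsingleton.elim a b, fun x => ⟨0, Subsingleton.elim _ _⟩⟩

/-- the one-point space of a field is a finite space -/
theorem point_isFinSp : (RSpace.point Ω).IsFinSp :=
  ⟨fun _ => (inferInstance : IsNoetherianRing Ω), fun _ _ _ => RingHom.Flat.id Ω⟩

variable {x : X.pt} (ψ : X.ring x →+* Ω)

/-- the morphism from a point -/
def pointHom : Hom (RSpace.point Ω) X where
  fn _ := x
  mono _ _ _ := le_rfl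
  app _ := ψ
  compat _ b := congr_arg ψ (X.res_self x b).symm

theorem le_of_mem_wedge {y : X.pt} {p : (RSpace.point Ω).pt}
    (q : ↥((pointHom ψ).wedge p y)) : y ≤ x := q.2.2

theorem pointHom_isSchematic (hX : X.IsSchematic)
    (hmax : ∀ (y y' : X.pt) (hy : y ≤ y') (hyx : y ≤ x) (r : PrimeSpectrum (X.ring y')),
      r.asIdeal.comap (X.res hy) = RingHom.ker (ψ.comp (X.res hyx)) → y' ≤ x) :
    (pointHom ψ).IsSchematic := by
  refine ⟨point_isFinSp, hX.1, fun n p p' hp y y' hy => ?_⟩
  obtain rfl : p = p' := Subsingleton.elim _ _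
  let f := pointHom ψ
  cases n with
  | succ n =>
    haveI := fun (U : Set (RSpace.point Ω).pt) {R : Type u} [CommRing R]
      (φ : Coef (RSpace.point Ω) U R) => subsingleton_H_succ φ (RSpace.point Ω).str n
    constructor
    · exact isBCAlong_of_subsingleton _ inferInstance
    · exact isBCAlong_of_subsingleton _ inferInstance
  | zero =>
    constructor
    · let φ0 := Coef.ofLE p (f.wedge p y) (f.wedge_subset_up p y)
      letI := ((RSpace.point Ω).res hp).toAlgebra
      have hres : ∀ a, (RSpace.point Ω).res hp a = a := fun _ => rfl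
      have hr : ∀ m, val0 φ0 (resH (RSpace.point Ω).str (f.subSrc hp y) 0 m) = val0 φ0 m :=
        fun m => Subtype.ext (funext fun q => val0_resH (f.subSrc hp y) m q)
      have hid : ∀ m, resH (RSpace.point Ω).str (f.subSrc hp y) 0 m = m :=
        fun m => (val0_bijective φ0).1 (hr m)
      let e : (RSpace.point Ω).ring p ⊗[(RSpace.point Ω).ring p] H φ0 (RSpace.point Ω).str 0 ≃ₗ[_]
          H φ0 (RSpace.point Ω).str 0 := TensorProduct.lid _ _
      refine (isBCAlong_iff_bijective _ e.toLinearMap.toAddMonoidHom (fun s m => ?_)).2 e.bijective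
      exact (TensorProduct.lid_tmul m s).trans (congr_arg (fun t => s • t) (hid m).symm)
    · letI := (X.res hy).toAlgebra
      let φ0 := Coef.ofHom f y (f.wedge p y) (f.wedge_subset_pre p y)
      let φ1 := Coef.ofHom f y' (f.wedge p y') (f.wedge_subset_pre p y')
      by_cases hy' : y' ≤ x
      · have hyx : y ≤ x := hy.trans hy'
        let q0 : ↥(f.wedge p y) := ⟨p, le_rfl, hyx⟩
        let q1 : ↥(f.wedge p y') := ⟨p, le_rfl, hy'⟩
        letI : Algebra (X.ring y) Ω := (ψ.comp (X.res hyx)).toAlgebra
        let e0 : H φ0 (RSpace.point Ω).str 0 →ₗ[X.ring y] Ω :=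
          { toFun := fun m => (val0 φ0 m).1 q0
            map_add' := fun a b => by rw [map_add]; rfl
            map_smul' := fun a m => val0_smul φ0 a m q0 }
        let e1 : H φ1 (RSpace.point Ω).str 0 → Ω := fun m => (val0 φ1 m).1 q1
        have hev : ∀ (z : X.pt) (φ : Coef (RSpace.point Ω) (f.wedge p z) (X.ring z))
            (q : ↥(f.wedge p z)), Bijective (fun m => ((val0 φ m).1 q : Ω)) := by
          intro z φ q
          constructor
          · intro a b h
            refine (val0_bijective φ).1 (Subtype.ext (funext fun q' => ?_))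
            obtain rfl : q' = q := Subtype.ext (Subsingleton.elim _ _)
            exact h
          · intro w
            obtain ⟨m, hm⟩ := (val0_bijective φ).2 ⟨fun _ => w, fun _ _ _ => rfl⟩
            exact ⟨m, congr_fun (congr_arg Subtype.val hm) q⟩
        let E0 := LinearEquiv.ofBijective e0 (hev y φ0 q0)
        let ψ' : X.ring y' →+* Ω := ψ.comp (X.res hy')
        let μ : X.ring y' ⊗[X.ring y] Ω →ₐ[X.ring y] Ω :=
          Algebra.TensorProduct.lift
            { ψ' with commutes' := fun a => congr_arg ψ (X.res_comp hy hy' a) }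
            (AlgHom.id _ _) (fun _ _ => Commute.all _ _)
        have hμ : Bijective μ := by
          have hsw : ∀ s : X.ring y', s ⊗ₜ[X.ring y] (1 : Ω) = (1 : X.ring y') ⊗ₜ ψ' s := by
            intro s
            refine RingHom.congr_fun (res_epi hX hy
              (Algebra.TensorProduct.includeLeftRingHom : X.ring y' →+* X.ring y' ⊗[X.ring y] Ω)
              ((Algebra.TensorProduct.includeRight : Ω →ₐ[X.ring y] X.ring y' ⊗[X.ring y] Ω).toRingHom.comp ψ')
              (RingHom.ext fun a => ?_)) s
            change (algebraMap (X.ring y) (X.ring y') a) ⊗ₜ[X.ring y] (1 : Ω) =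
              (1 : X.ring y') ⊗ₜ (ψ (X.res hy' (X.res hy a)))
            rw [X.res_comp, Algebra.algebraMap_eq_smul_one, TensorProduct.smul_tmul,
              ← Algebra.algebraMap_eq_smul_one]
            rfl
          have hsur : ∀ t : X.ring y' ⊗[X.ring y] Ω, t = (1 : X.ring y') ⊗ₜ μ t := by
            intro t
            induction t using TensorProduct.induction_on with
            | zero => simp
            | tmul s w =>
              have : s ⊗ₜ[X.ring y] w = (s ⊗ₜ (1 : Ω)) * ((1 : X.ring y') ⊗ₜ w) := by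
                rw [Algebra.TensorProduct.tmul_mul_tmul, mul_one, one_mul]
              rw [this, hsw, Algebra.TensorProduct.tmul_mul_tmul, one_mul]
              simp [μ]
            | add u v hu hv => rw [map_add, TensorProduct.tmul_add, ← hu, ← hv]
          exact ⟨fun a b h => by rw [hsur a, hsur b, h], fun w => ⟨1 ⊗ₜ w, by simp [μ]⟩⟩
        let E1 := Equiv.ofBijective e1 (hev y' φ1 q1)
        have he1 : ∀ a b, e1 (a + b) = e1 a + e1 b := fun a b => by
          simp only [e1, map_add]; rfl
        let F : X.ring y' ⊗[X.ring y] H φ0 (RSpace.point Ω).str 0 →+ H φ1 (RSpace.point Ω).str 0 :=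
          { toFun := fun t => E1.symm (μ (TensorProduct.map LinearMap.id E0.toLinearMap t))
            map_zero' := E1.injective (by
              rw [Equiv.apply_symm_apply, map_zero, map_zero]
              change (0 : Ω) = e1 0
              simp only [e1, map_zero]; rfl)
            map_add' := fun a b => E1.injective (by
              rw [Equiv.apply_symm_apply, map_add, map_add]
              change _ = e1 (_ + _)
              rw [he1]
              exact congr_arg₂ (· + ·) (Equiv.apply_symm_apply E1 _).symm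
                (Equiv.apply_symm_apply E1 _).symm) }
        refine (isBCAlong_iff_bijective _ F (fun s m => ?_)).2
          (E1.symm.bijective.comp (hμ.comp
            (TensorProduct.congr (LinearEquiv.refl _ (X.ring y')) E0).bijective))
        apply E1.injective
        change E1 (E1.symm _) = e1 (s • _)
        rw [Equiv.apply_symm_apply, TensorProduct.map_tmul]
        change μ (s ⊗ₜ e0 m) = e1 (s • _)
        simp only [e1]
        rw [val0_smul]
        refine Eq.trans ?_ (congr_arg (fun t => φ1.map q1 s * t)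
          (val0_resH (f.subTgt p hy) m q1)).symm
        simp only [μ, Algebra.TensorProduct.lift_tmul]
        rfl
      · haveI : Subsingleton (H φ1 (RSpace.point Ω).str 0) :=
          subsingleton_H0 φ1 (Set.eq_empty_iff_forall_notMem.2 fun q hq => hy' hq.2)
        refine isBCAlong_of_subsingleton _ ?_
        by_cases hyx : y ≤ x
        · letI : Algebra (X.ring y) Ω := (ψ.comp (X.res hyx)).toAlgebra
          haveI : Subsingleton (X.ring y' ⊗[X.ring y] Ω) := by
            by_contra hns
            haveI := not_subsingleton_iff_nontrivial.1 hns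
            obtain ⟨m, hm⟩ := Ideal.exists_maximal (X.ring y' ⊗[X.ring y] Ω)
            haveI := hm
            let g₁ : X.ring y' →+* X.ring y' ⊗[X.ring y] Ω :=
              Algebra.TensorProduct.includeLeftRingHom
            refine hy' (hmax y y' hy hyx ⟨m.comap g₁, hm.isPrime.comap g₁⟩ ?_)
            have : g₁.comp (X.res hy) =
                ((Algebra.TensorProduct.includeRight : Ω →ₐ[X.ring y] _).toRingHom).comp
                  (ψ.comp (X.res hyx)) := RingHom.ext fun a => by
              change (algebraMap (X.ring y) (X.ring y') a) ⊗ₜ[X.ring y] (1 : Ω) =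
                (1 : X.ring y') ⊗ₜ (algebraMap (X.ring y) Ω a)
              rw [Algebra.algebraMap_eq_smul_one, Algebra.algebraMap_eq_smul_one,
                TensorProduct.smul_tmul]
            change (m.comap g₁).comap (X.res hy) = _
            rw [Ideal.comap_comap, this, ← Ideal.comap_comap]
            rcases Ideal.eq_bot_or_top (m.comap
              (Algebra.TensorProduct.includeRight : Ω →ₐ[X.ring y] X.ring y' ⊗[X.ring y] Ω).toRingHom)
              with h | h
            · rw [h, ← RingHom.ker_eq_comap_bot]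
            · exact absurd h (hm.isPrime.comap _).ne_top
          let q0 : ↥(f.wedge p y) := ⟨p, le_rfl, hyx⟩
          let e0 : H φ0 (RSpace.point Ω).str 0 →ₗ[X.ring y] Ω :=
            { toFun := fun m => (val0 φ0 m).1 q0
              map_add' := fun a b => by rw [map_add]; rfl
              map_smul' := fun a m => val0_smul φ0 a m q0 }
          have he0 : Bijective e0 := by
            constructor
            · intro a b h
              refine (val0_bijective φ0).1 (Subtype.ext (funext fun q' => ?_))
              obtain rfl : q' = q0 := Subtype.ext (Subsingleton.elim _ _)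
              exact h
            · intro w
              obtain ⟨m, hm⟩ := (val0_bijective φ0).2 ⟨fun _ => w, fun _ _ _ => rfl⟩
              exact ⟨m, by change (val0 φ0 m).1 q0 = w; rw [hm]⟩
          exact (TensorProduct.congr (LinearEquiv.refl _ (X.ring y'))
            (LinearEquiv.ofBijective e0 he0)).toEquiv.subsingleton
        · haveI : Subsingleton (H φ0 (RSpace.point Ω).str 0) :=
            subsingleton_H0 φ0 (Set.eq_empty_iff_forall_notMem.2 fun q hq => hyx hq.2)
          infer_instance

theorem comap_ne_ker (hX : X.IsSchematic) (ξ : GeomPt X Ω) {x' : X.pt} (hx : ξ.base < x')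
    (P : Ideal (X.ring x')) [P.IsPrime] :
    P.comap (X.res hx.le) ≠ RingHom.ker ξ.toField := by
  intro hP
  obtain ⟨L, _, g₁, g₂, hg, -⟩ := exists_field_amalgam (X.res hx.le) ξ.toField P hP
  let y := ξ.base
  let f := ξ.hom
  let p : (RSpace.point Ω).pt := PUnit.unit
  letI := (X.res hx.le).toAlgebra
  let φ0 := Coef.ofHom f y (f.wedge p y) (f.wedge_subset_pre p y)
  let φ1 := Coef.ofHom f x' (f.wedge p x') (f.wedge_subset_pre p x')
  have hbc := (ξ.isSchematic.2.2 0 p p le_rfl y x' hx.le).2
  haveI : Subsingleton (H φ1 (RSpace.point Ω).str 0) :=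
    subsingleton_H0 φ1 (Set.eq_empty_iff_forall_notMem.2 fun q hq => hx.not_ge hq.2)
  letI : Algebra (X.ring y) Ω := ξ.toField.toAlgebra
  letI : Algebra (X.ring y) L := (g₁.comp (X.res hx.le)).toAlgebra
  let q0 : ↥(f.wedge p y) := ⟨p, le_rfl, le_rfl⟩
  let e0 : H φ0 (RSpace.point Ω).str 0 →ₗ[X.ring y] Ω :=
    { toFun := fun m => (val0 φ0 m).1 q0
      map_add' := fun a b => by rw [map_add]; rfl
      map_smul' := fun a m => by
        refine (val0_smul φ0 a m q0).trans ?_
        change ξ.toField (X.res le_rfl a) * _ = _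
        rw [X.res_self]; rfl }
  have he0 : Surjective e0 := fun w => by
    obtain ⟨m, hm⟩ := (val0_bijective φ0).2 ⟨fun _ => w, fun _ _ _ => rfl⟩
    exact ⟨m, by change (val0 φ0 m).1 q0 = w; rw [hm]⟩
  letI : Module (X.ring y) (H φ1 (RSpace.point Ω).str 0) := Module.compHom _ (X.res hx.le)
  haveI : IsScalarTower (X.ring y) (X.ring x') (H φ1 (RSpace.point Ω).str 0) :=
    IsScalarTower.of_algebraMap_smul fun _ _ => rfl
  let rl : H φ0 (RSpace.point Ω).str 0 →ₗ[X.ring y] H φ1 (RSpace.point Ω).str 0 :=
    { toFun := resH (RSpace.point Ω).str (f.subTgt p hx.le) 0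
      map_add' := map_add _
      map_smul' := (resH (RSpace.point Ω).str (f.subTgt p hx.le) 0).map_smulₛₗ }
  have hBC : IsBaseChange (X.ring x') rl := hbc
  haveI : Subsingleton (X.ring x' ⊗[X.ring y] H φ0 (RSpace.point Ω).str 0) :=
    hBC.equiv.toEquiv.subsingleton
  haveI : Subsingleton (X.ring x' ⊗[X.ring y] Ω) :=
    (LinearMap.lTensor_surjective (X.ring x') he0).subsingleton
  let m : X.ring x' ⊗[X.ring y] Ω →ₐ[X.ring y] L :=
    Algebra.TensorProduct.lift { g₁ with commutes' := fun _ => rfl }
      { g₂ with commutes' := fun a => (RingHom.congr_fun hg a).symm } (fun _ _ => Commute.all _ _)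
  exact one_ne_zero (α := L) (by
    rw [← map_one m, Subsingleton.elim (1 : X.ring x' ⊗[X.ring y] Ω) 0, map_zero])

theorem existsUnique_geomPt (hX : X.IsSchematic) (hff : HasFFSections X) (a : X.Pair)
    (ha : ∀ b : X.Pair, X.PairRel a b → b.1 ≤ a.1) (φ : a.κ →+* Ω) :
    ∃! ξ : GeomPt X Ω, (⟨ξ.base, ξ.toField⟩ : Σ x : X.pt, (X.ring x →+* Ω)) =
      ⟨a.1, φ.comp (algebraMap (X.ring a.1) a.κ)⟩ := by
  let ψ : X.ring a.1 →+* Ω := φ.comp (algebraMap (X.ring a.1) a.κ)
  have hker : RingHom.ker ψ = a.2.asIdeal := by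
    rw [← RingHom.comap_ker, (RingHom.injective_iff_ker_eq_bot φ).1 φ.injective,
      ← RingHom.ker_eq_comap_bot, Ideal.ker_algebraMap_residueField]
  have hs : (pointHom ψ).IsSchematic := pointHom_isSchematic ψ hX fun y y' hy hyx r hr => by
    have : PrimeSpectrum.comap (X.res hyx) a.2 = PrimeSpectrum.comap (X.res hy) r := by
      refine PrimeSpectrum.ext ?_
      rw [PrimeSpectrum.comap_asIdeal, PrimeSpectrum.comap_asIdeal, hr, ← RingHom.comap_ker, hker]
    exact ha ⟨y', r⟩ (pairRel_of_common hX hff hyx hy a.2 r this)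
  refine ⟨⟨pointHom ψ, hs⟩, rfl, ?_⟩
  rintro ⟨⟨fn, mono, app, compat⟩, hsch⟩ h
  have aux : ∀ (fn : PUnit.{u+1} → X.pt) (app : ∀ q, X.ring (fn q) →+* Ω),
      ((⟨fn PUnit.unit, app PUnit.unit⟩ : Σ x : X.pt, (X.ring x →+* Ω)) = ⟨a.1, ψ⟩) →
      fn = (fun _ => a.1) ∧ HEq app (fun _ : PUnit.{u+1} => ψ) := by
    intro fn app h
    obtain ⟨h1, h2⟩ := Sigma.mk.inj_iff.1 h
    obtain rfl : fn = fun _ => a.1 := funext fun _ => h1
    exact ⟨rfl, heq_of_eq (funext fun _ => eq_of_heq h2)⟩
  obtain ⟨h1, h2⟩ := aux fn app h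
  subst h1
  cases eq_of_heq h2
  rfl

end Geom

end GrothLib.FinSp
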