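import Groth.Agent.Lib.SchFin.Cover
import Mathlib.RingTheory.SurjectiveOnStalks
import Mathlib.RingTheory.Localization.Away.Basic
import Mathlib.RingTheory.Flat.Localization
import Mathlib.LinearAlgebra.TensorProduct.Basis

/-!
# Schematic finite spaces: degree zero of the standard complex and its consequences
-/

set_option autoImplicit false

open TensorProduct Function SchFin GrothLib.SchFin

namespace GrothLib.FinSp

universe u

theorem isBCAlong_iff_bijective {R S M N : Type u} [CommRing R] [CommRing S] [AddCommGroup M]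
    [AddCommGroup N] [Module R M] [Module S N] {g : R →+* S} (f : M →ₛₗ[g] N)
    (F : letI := g.toAlgebra; S ⊗[R] M →+ N)
    (hF : letI := g.toAlgebra; ∀ s m, F (s ⊗ₜ m) = s • f m) :
    IsBCAlong g f ↔ Bijective F := by
  letI := g.toAlgebra
  letI : Module R N := Module.compHom N g
  haveI : IsScalarTower R S N := IsScalarTower.of_algebraMap_smul fun _ _ => rfl
  let f' : M →ₗ[R] N := { toFun := f, map_add' := f.map_add, map_smul' := f.map_smulₛₗ }
  change IsBaseChange S f' ↔ _
  constructor
  · intro h
    have : ⇑F = ⇑h.equiv := by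
      funext t
      induction t using TensorProduct.induction_on with
      | zero => rw [map_zero, map_zero]
      | tmul s m => rw [hF, IsBaseChange.equiv_tmul]; rfl
      | add x y hx hy => rw [map_add, map_add, hx, hy]
    rw [this]; exact h.equiv.bijective
  · intro h
    let l : S ⊗[R] M →ₗ[S] N :=
      { toFun := F
        map_add' := map_add F
        map_smul' := fun s t => by
          induction t using TensorProduct.induction_on with
          | zero => simp
          | tmul s' m => rw [TensorProduct.smul_tmul', hF, hF, RingHom.id_apply, smul_eq_mul, mul_smul]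
          | add x y hx hy =>
            simp only [RingHom.id_apply] at hx hy ⊢
            rw [smul_add, map_add, map_add, hx, hy, smul_add] }
    exact IsBaseChange.of_equiv (LinearEquiv.ofBijective l h)
      (fun m => (hF 1 m).trans (one_smul S _))

section H0

variable {X : RSpace.{u}} {U : Set X.pt} {R : Type u} [CommRing R] (φ : Coef X U R)

/-- one-point chain -/
def single (q : U) : Chain U 0 :=
  OrderEmbedding.ofStrictMono (fun _ => q) (fun i j h => absurd h (by simp only [Fin.lt_def]; omega))

theorem chain_eq_single (σ : Chain U 0) : σ = single (σ (Fin.last 0)) := by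
  refine RelEmbedding.ext fun i => ?_
  obtain rfl : i = Fin.last 0 := Fin.ext (by simp only [Fin.val_last]; omega)
  rfl

theorem cocycle_compat (c : cocycles φ X.str 0) (q q' : U) (h : q.1 ≤ q'.1) :
    X.res h (c.1 (single q)) = c.1 (single q') := by
  rcases eq_or_lt_of_le (show q ≤ q' from h) with e | hlt
  · subst e
    exact X.res_self _ _
  let τ : Chain U 1 := OrderEmbedding.ofStrictMono ![q, q'] (by
    intro i j hij
    fin_cases i <;> fin_cases j <;> simp_all)
  have h0 : τ.face 0 = single q' := by
    refine RelEmbedding.ext fun i => ?_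
    obtain rfl : i = 0 := Fin.ext (by simp only [Fin.val_zero]; omega)
    rfl
  have h1 : τ.face 1 = single q := by
    refine RelEmbedding.ext fun i => ?_
    obtain rfl : i = 0 := Fin.ext (by simp only [Fin.val_zero]; omega)
    rfl
  have hd : (diff φ X.str 0 c.1) τ = 0 := congr_fun (c.2 : diff φ X.str 0 c.1 = 0) τ
  have e0 : c.1.faceVal τ 0 = (c.1 (single q') : X.ring q'.1) := by
    have key : ∀ (σ : Chain U 0) (hσ : (σ (Fin.last 0)).1 ≤ q'.1), σ = single q' →
        X.res hσ (c.1 σ) = c.1 (single q') := by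
      rintro σ hσ rfl
      exact X.res_self _ _
    exact key _ (Chain.face_last_le 0 τ) h0
  have e1 : c.1.faceVal τ 1 = (X.res h (c.1 (single q)) : X.ring q'.1) := by
    have key : ∀ (σ : Chain U 0) (hσ : (σ (Fin.last 0)).1 ≤ q'.1), σ = single q →
        X.res hσ (c.1 σ) = X.res h (c.1 (single q)) := by
      rintro σ hσ rfl
      rfl
    exact key _ (Chain.face_last_le 1 τ) h1
  change ∑ j : Fin 2, ((-1 : ℤ) ^ (j : ℕ)) • c.1.faceVal τ j = 0 at hd
  rw [Fin.sum_univ_two, e0, e1] at hd
  have key : ∀ a b : X.ring q'.1,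
      ((-1 : ℤ) ^ ((0 : Fin 2) : ℕ)) • a + ((-1 : ℤ) ^ ((1 : Fin 2) : ℕ)) • b = 0 → b = a := by
    intro a b hab
    simp only [Fin.val_zero, Fin.val_one, pow_zero, pow_one, one_smul, neg_smul] at hab
    exact (add_neg_eq_zero.1 hab).symm
  exact key _ _ hd

/-- the section attached to a class of degree zero -/
def val0 : H φ X.str 0 →+ X.sectRing U :=
  QuotientAddGroup.lift _
    { toFun := fun c => (⟨fun q => (c.1 (single q) : X.ring q.1), cocycle_compat φ c⟩ : X.sectRing U)
      map_zero' := rfl
      map_add' := fun _ _ => rfl }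
    (fun c hc => by
      have hc' : c.1 ∈ (⊥ : Submodule R (Cochain φ X.str 0)) := hc
      rw [Submodule.mem_bot] at hc'
      exact Subtype.ext (funext fun q => congr_fun hc' (single q)))

theorem val0_mk (c : cocycles φ X.str 0) (q : U) :
    (val0 φ (H.mk φ X.str 0 c)).1 q = c.1 (single q) := rfl

theorem val0_bijective : Bijective (val0 φ) := by
  constructor
  · intro a b hab
    obtain ⟨a, rfl⟩ := Submodule.mkQ_surjective _ a
    obtain ⟨b, rfl⟩ := Submodule.mkQ_surjective _ b
    refine congr_arg _ (Subtype.ext (funext fun σ => ?_))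
    rw [chain_eq_single σ]
    exact congr_fun (congr_arg Subtype.val hab) (σ (Fin.last 0))
  · intro s
    let c : Cochain φ X.str 0 := fun σ => s.1 (σ (Fin.last 0))
    have hc : c ∈ cocycles φ X.str 0 := by
      refine LinearMap.mem_ker.2 (funext fun τ => ?_)
      change ∑ j : Fin 2, ((-1 : ℤ) ^ (j : ℕ)) • c.faceVal τ j = 0
      have e : ∀ j, c.faceVal τ j = (s.1 (τ (Fin.last 1)) : X.ring (τ (Fin.last 1)).1) :=
        fun j => s.2 _ _ (Chain.face_last_le j τ)
      rw [Fin.sum_univ_two, e, e]
      simp
    exact ⟨H.mk φ X.str 0 ⟨c, hc⟩, Subtype.ext (funext fun q => rfl)⟩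

theorem val0_smul (a : R) (x : H φ X.str 0) (q : U) :
    (val0 φ (a • x)).1 q = φ.map q a * (val0 φ x).1 q := by
  obtain ⟨x, rfl⟩ := Submodule.mkQ_surjective _ x
  rfl

variable {φ} {U' : Set X.pt} {R' : Type u} [CommRing R'] {φ' : Coef X U' R'}

theorem val0_resH (s : Coef.Sub φ φ') (x : H φ X.str 0) (q : U') :
    (val0 φ' (resH X.str s 0 x)).1 q = (val0 φ x).1 ⟨q.1, s.le q.2⟩ := by
  obtain ⟨x, rfl⟩ := Submodule.mkQ_surjective _ x
  change x.1 ((single q).incl s.le) = x.1 (single (⟨q.1, s.le q.2⟩ : U))
  have key : ∀ (σ : Chain U 0) (hσ : σ = single (⟨q.1, s.le q.2⟩ : U)),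
      HEq (x.1 σ) (x.1 (single (⟨q.1, s.le q.2⟩ : U))) := by
    rintro σ rfl; rfl
  exact eq_of_heq (key _ (RelEmbedding.ext fun i => rfl))

theorem subsingleton_H0 (φ : Coef X U R) (h : U = ∅) : Subsingleton (H φ X.str 0) :=
  ⟨fun a b => (val0_bijective φ).1 (Subtype.ext (funext fun q => absurd q.2 (by simp [h])))⟩

end H0

section Consequences

theorem wedge_le {X : RSpace.{u}} {x y : X.pt} (q : ↥((Hom.id X).wedge x y)) : y ≤ q.1 := q.2.2

variable {X : RSpace.{u}} (hX : X.IsSchematic)

/-- the product map into sections over the common upper bounds -/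
noncomputable def mulRes {s x y : X.pt} (hx : s ≤ x) (hy : s ≤ y) :
    letI := (X.res hx).toAlgebra; letI := (X.res hy).toAlgebra
    X.ring x ⊗[X.ring s] X.ring y →+* X.sectRing (X.up x ∩ X.up y) :=
  letI := (X.res hx).toAlgebra; letI := (X.res hy).toAlgebra
  letI : Algebra (X.ring s) (X.sectRing (X.up x ∩ X.up y)) :=
    ((X.resSect x (X.up x ∩ X.up y) Set.inter_subset_left).comp (X.res hx)).toAlgebra
  (Algebra.TensorProduct.lift
    ({ X.resSect x (X.up x ∩ X.up y) Set.inter_subset_left with commutes' := fun _ => rfl } :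
      X.ring x →ₐ[X.ring s] X.sectRing (X.up x ∩ X.up y))
    ({ X.resSect y (X.up x ∩ X.up y) Set.inter_subset_right with
        commutes' := fun a => Subtype.ext (funext fun q => by
          change X.res _ (X.res hy a) = X.res _ (X.res hx a)
          rw [X.res_comp, X.res_comp]) } :
      X.ring y →ₐ[X.ring s] X.sectRing (X.up x ∩ X.up y))
    (fun _ _ => Commute.all _ _)).toRingHom

theorem mulRes_tmul {s x y : X.pt} (hx : s ≤ x) (hy : s ≤ y) (a : X.ring x) (b : X.ring y)
    (q : ↥(X.up x ∩ X.up y)) :
    letI := (X.res hx).toAlgebra; letI := (X.res hy).toAlgebra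
    (mulRes hx hy (a ⊗ₜ b)).1 q = X.res q.2.1 a * X.res q.2.2 b := by
  letI := (X.res hx).toAlgebra; letI := (X.res hy).toAlgebra
  simp only [mulRes, AlgHom.toRingHom_eq_coe, RingHom.coe_coe, Algebra.TensorProduct.lift_tmul]
  rfl

include hX in
theorem mulRes_bijective {s x y : X.pt} (hx : s ≤ x) (hy : s ≤ y) :
    Bijective (mulRes hx hy) := by
  letI := (X.res hx).toAlgebra; letI := (X.res hy).toAlgebra
  have hbc := (hX.2.2 0 s x hx y y le_rfl).1
  let f := Hom.id X
  let φ0 := Coef.ofLE s (f.wedge s y) (f.wedge_subset_up s y)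
  let φ1 := Coef.ofLE x (f.wedge x y) (f.wedge_subset_up x y)
  let ι : X.ring y →ₗ[X.ring s] H φ0 X.str 0 :=
    { toFun := fun b => (AddEquiv.ofBijective (val0 φ0) (val0_bijective φ0)).symm
        (X.resSect y (f.wedge s y) (fun _ h => h.2) b)
      map_add' := fun a b => by rw [map_add, map_add]
      map_smul' := fun a b => by
        apply (val0_bijective φ0).1
        refine (AddEquiv.apply_symm_apply
          (AddEquiv.ofBijective (val0 φ0) (val0_bijective φ0)) _).trans
          (Subtype.ext (funext fun q => ?_))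
        rw [RingHom.id_apply, val0_smul]
        have hv : val0 φ0 ((AddEquiv.ofBijective (val0 φ0) (val0_bijective φ0)).symm
            (X.resSect y (f.wedge s y) (fun _ h => h.2) b)) = _ :=
          AddEquiv.apply_symm_apply (AddEquiv.ofBijective (val0 φ0) (val0_bijective φ0)) _
        rw [hv]
        change X.res (wedge_le q) (X.res hy a * b) = X.res q.2.1 a * X.res (wedge_le q) b
        rw [map_mul, X.res_comp] }
  have hι : ∀ b q, (val0 φ0 (ι b)).1 q = X.res (wedge_le q) b := fun b q => by
    have hv : val0 φ0 (ι b) = X.resSect y (f.wedge s y) (fun _ h => h.2) b :=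
      AddEquiv.apply_symm_apply (AddEquiv.ofBijective (val0 φ0) (val0_bijective φ0)) _
    rw [hv]; rfl
  have hιb : Bijective ι := by
    constructor
    · intro a b h
      have := congr_arg (fun t => (val0 φ0 t).1 (⟨y, hy, le_rfl⟩ : ↥(f.wedge s y))) h
      simp only [hι] at this
      exact ((X.res_self _ _).symm.trans this).trans (X.res_self _ _)
    · intro t
      refine ⟨(val0 φ0 t).1 (⟨y, hy, le_rfl⟩ : ↥(f.wedge s y)), (val0_bijective φ0).1
        (Subtype.ext (funext fun q => ?_))⟩
      rw [hι]
      exact (val0 φ0 t).2 (⟨y, hy, le_rfl⟩ : ↥(f.wedge s y)) q q.2.2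
  letI : Module (X.ring s) (H φ1 X.str 0) := Module.compHom _ (X.res hx)
  haveI : IsScalarTower (X.ring s) (X.ring x) (H φ1 X.str 0) :=
    IsScalarTower.of_algebraMap_smul fun _ _ => rfl
  let rh := resH X.str (f.subSrc hx y) 0
  let rl : H φ0 X.str 0 →ₗ[X.ring s] H φ1 X.str 0 :=
    { toFun := rh, map_add' := rh.map_add, map_smul' := rh.map_smulₛₗ }
  have hBC : IsBaseChange (X.ring x) rl := hbc
  let T : X.ring x ⊗[X.ring s] X.ring y ≃ₗ[X.ring x] H φ1 X.str 0 :=
    (TensorProduct.AlgebraTensorModule.congr (LinearEquiv.refl (X.ring x) (X.ring x))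
      (LinearEquiv.ofBijective ι hιb)).trans hBC.equiv
  have : ⇑(mulRes hx hy) = fun t => val0 φ1 (T t) := by
    funext t
    induction t using TensorProduct.induction_on with
    | zero => rw [map_zero, map_zero]; exact (map_zero (val0 φ1)).symm
    | tmul a b =>
      refine Subtype.ext (funext fun q => ?_)
      rw [mulRes_tmul]
      have hT : T (a ⊗ₜ b) = a • rl (ι b) := by
        simp [T, IsBaseChange.equiv_tmul]
      rw [hT]
      refine Eq.trans ?_ (val0_smul φ1 a (rl (ι b)) q).symm
      have hr : (val0 φ1 (rl (ι b))).1 q = (val0 φ0 (ι b)).1 ⟨q.1, (f.subSrc hx y).le q.2⟩ :=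
        val0_resH (f.subSrc hx y) (ι b) q
      rw [hr, hι]
      rfl
    | add u v hu hv =>
      simp only [map_add] at hu hv ⊢
      rw [hu, hv]; rfl
  rw [this]
  exact (val0_bijective φ1).comp T.bijective

include hX in
theorem res_epi {x y : X.pt} (h : x ≤ y) {T : Type u} [CommRing T] (g₁ g₂ : X.ring y →+* T)
    (hg : g₁.comp (X.res h) = g₂.comp (X.res h)) : g₁ = g₂ := by
  letI := (X.res h).toAlgebra
  have key : ∀ b : X.ring y, (b ⊗ₜ[X.ring x] (1 : X.ring y)) = 1 ⊗ₜ b := fun b =>
    (mulRes_bijective hX h h).1 (Subtype.ext (funext fun q => by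
      rw [mulRes_tmul, mulRes_tmul, map_one, mul_one, one_mul]))
  letI : Algebra (X.ring x) T := (g₁.comp (X.res h)).toAlgebra
  let m : X.ring y ⊗[X.ring x] X.ring y →ₐ[X.ring x] T :=
    Algebra.TensorProduct.lift { g₁ with commutes' := fun _ => rfl }
      { g₂ with commutes' := fun a => (RingHom.congr_fun hg a).symm } (fun _ _ => Commute.all _ _)
  refine RingHom.ext fun b => ?_
  have := congr_arg m (key b)
  simpa [m, Algebra.TensorProduct.lift_tmul] using this

include hX in
theorem res_surjectiveOnStalks {x y : X.pt} (h : x ≤ y) : (X.res h).SurjectiveOnStalks := by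
  intro P hP
  let Q : Ideal (X.ring x) := P.comap (X.res h)
  let l := Localization.localRingHom Q P (X.res h) rfl
  let A := Localization.AtPrime Q
  let B := Localization.AtPrime P
  letI := (X.res h).toAlgebra
  haveI : Module.Flat (X.ring x) (X.ring y) := flat_res hX.1 h
  letI : Algebra A B := l.toAlgebra
  haveI : IsScalarTower (X.ring x) A B := .of_algebraMap_eq fun r => by
    change algebraMap (X.ring x) B r = l (algebraMap (X.ring x) A r)
    rw [Localization.localRingHom_to_map,
      IsScalarTower.algebraMap_apply (X.ring x) (X.ring y) B]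
    rfl
  haveI : Module.Flat (X.ring x) B := Module.Flat.trans (X.ring x) (X.ring y) B
  haveI : Module.Flat A B :=
    (Module.flat_iff_of_isLocalization A Q.primeCompl B).2 inferInstance
  haveI : IsLocalHom (algebraMap A B) := Localization.isLocalHom_localRingHom Q P (X.res h) rfl
  haveI : Module.FaithfullyFlat A B := Module.FaithfullyFlat.of_flat_of_isLocalHom
  have heq : (Algebra.TensorProduct.includeLeftRingHom : B →+* B ⊗[A] B) =
      (Algebra.TensorProduct.includeRight : B →ₐ[A] B ⊗[A] B).toRingHom := by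
    refine IsLocalization.ringHom_ext P.primeCompl ?_
    refine res_epi hX h _ _ ?_
    ext r
    change (algebraMap (X.ring y) B (algebraMap (X.ring x) (X.ring y) r)) ⊗ₜ[A] (1 : B) =
      (1 : B) ⊗ₜ[A] (algebraMap (X.ring y) B (algebraMap (X.ring x) (X.ring y) r))
    rw [← IsScalarTower.algebraMap_apply, IsScalarTower.algebraMap_apply (X.ring x) A B,
      Algebra.algebraMap_eq_smul_one, TensorProduct.smul_tmul]
  suffices Surjective (Algebra.linearMap A B) from this
  rw [← Module.FaithfullyFlat.lTensor_surjective_iff_surjective A B]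
  intro t
  induction t using TensorProduct.induction_on with
  | zero => exact ⟨0, map_zero _⟩
  | tmul b c =>
    refine ⟨(b * c) ⊗ₜ 1, ?_⟩
    rw [LinearMap.lTensor_tmul, Algebra.linearMap_apply, map_one]
    have hc : c ⊗ₜ[A] (1 : B) = (1 : B) ⊗ₜ[A] c := RingHom.congr_fun heq c
    calc (b * c) ⊗ₜ[A] (1 : B) = (b ⊗ₜ[A] (1 : B)) * (c ⊗ₜ[A] (1 : B)) := by
          rw [Algebra.TensorProduct.tmul_mul_tmul, mul_one]
      _ = b ⊗ₜ[A] c := by rw [hc, Algebra.TensorProduct.tmul_mul_tmul, mul_one, one_mul]
  | add u v hu hv =>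
    obtain ⟨a, ha⟩ := hu
    obtain ⟨b, hb⟩ := hv
    exact ⟨a + b, by rw [map_add, ha, hb]⟩

include hX in
theorem localRingHom_bijective {x y : X.pt} (h : x ≤ y) (P : Ideal (X.ring y)) [P.IsPrime] :
    Bijective (Localization.localRingHom (P.comap (X.res h)) P (X.res h) rfl) := by
  let Q : Ideal (X.ring x) := P.comap (X.res h)
  let l := Localization.localRingHom Q P (X.res h) rfl
  let A := Localization.AtPrime Q
  let B := Localization.AtPrime P
  refine ⟨?_, res_surjectiveOnStalks hX h P inferInstance⟩
  letI := (X.res h).toAlgebra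
  haveI : Module.Flat (X.ring x) (X.ring y) := flat_res hX.1 h
  letI : Algebra A B := l.toAlgebra
  haveI : IsScalarTower (X.ring x) A B := .of_algebraMap_eq fun r => by
    change algebraMap (X.ring x) B r = l (algebraMap (X.ring x) A r)
    rw [Localization.localRingHom_to_map,
      IsScalarTower.algebraMap_apply (X.ring x) (X.ring y) B]
    rfl
  haveI : Module.Flat (X.ring x) B := Module.Flat.trans (X.ring x) (X.ring y) B
  haveI : Module.Flat A B :=
    (Module.flat_iff_of_isLocalization A Q.primeCompl B).2 inferInstance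
  haveI : IsLocalHom (algebraMap A B) := Localization.isLocalHom_localRingHom Q P (X.res h) rfl
  haveI : Module.FaithfullyFlat A B := Module.FaithfullyFlat.of_flat_of_isLocalHom
  haveI := (Module.FaithfullyFlat.tensorProduct_mk_injective (A := A) (B := B) A)
  exact FaithfulSMul.algebraMap_injective A B

end Consequences

/-- Over a common point, a prime and a field-valued point have a common field-valued refinement. -/
theorem exists_field_amalgam {R S Ω : Type u} [CommRing R] [CommRing S] [Field Ω] (f : R →+* S)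
    (φ : R →+* Ω) (P : Ideal S) [P.IsPrime] (hP : P.comap f = RingHom.ker φ) :
    ∃ (L : Type u) (_ : Field L) (g₁ : S →+* L) (g₂ : Ω →+* L),
      g₁.comp f = g₂.comp φ ∧ RingHom.ker g₁ = P := by
  let p := RingHom.ker φ
  haveI : p.IsPrime := RingHom.ker_isPrime φ
  have hinj : Injective (Ideal.Quotient.lift p φ fun _ ha => ha) := by
    rw [RingHom.injective_iff_ker_eq_bot, Ideal.ker_quotient_lift, Ideal.map_quotient_self]
  let K := p.ResidueField
  let kΩ : K →+* Ω := IsFractionRing.lift hinj
  let kP : K →+* P.ResidueField := Ideal.ResidueField.map p P f hP.symm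
  letI := kΩ.toAlgebra
  letI := kP.toAlgebra
  let T := P.ResidueField ⊗[K] Ω
  haveI : Nontrivial T := Module.FaithfullyFlat.lTensor_nontrivial K P.ResidueField Ω
  obtain ⟨m, hm⟩ := Ideal.exists_maximal T
  haveI := hm
  letI := Ideal.Quotient.field m
  let i₁ : P.ResidueField →+* T ⧸ m :=
    (Ideal.Quotient.mk m).comp Algebra.TensorProduct.includeLeftRingHom
  let i₂ : Ω →+* T ⧸ m :=
    (Ideal.Quotient.mk m).comp (Algebra.TensorProduct.includeRight : Ω →ₐ[K] T).toRingHom
  refine ⟨T ⧸ m, inferInstance, i₁.comp (algebraMap S P.ResidueField), i₂, ?_, ?_⟩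
  · ext r
    have h1 : kP (algebraMap R K r) = algebraMap S P.ResidueField (f r) :=
      Ideal.ResidueField.map_algebraMap p P f hP.symm r
    have h2 : kΩ (algebraMap R K r) = φ r := by
      rw [IsScalarTower.algebraMap_apply R (R ⧸ p) K]
      exact IsFractionRing.lift_algebraMap hinj _
    change Ideal.Quotient.mk m (algebraMap S P.ResidueField (f r) ⊗ₜ[K] (1 : Ω)) =
      Ideal.Quotient.mk m ((1 : P.ResidueField) ⊗ₜ[K] φ r)
    rw [← h1, ← h2]
    have h3 : (algebraMap K P.ResidueField (algebraMap R K r)) ⊗ₜ[K] (1 : Ω) =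
        (1 : P.ResidueField) ⊗ₜ[K] (algebraMap K Ω (algebraMap R K r)) := by
      generalize algebraMap R K r = k
      rw [Algebra.algebraMap_eq_smul_one, Algebra.algebraMap_eq_smul_one, TensorProduct.smul_tmul]
    exact congr_arg _ h3
  · rw [← RingHom.comap_ker, (RingHom.injective_iff_ker_eq_bot i₁).1 i₁.injective,
      ← RingHom.ker_eq_comap_bot, Ideal.ker_algebraMap_residueField]

end GrothLib.FinSp
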